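import Cfsg.Agent.Lib.Sporadic.FiTransfer.Fi23Tri.Data
import Cfsg.Agent.Lib.Sporadic.FiTransfer.Fi23Ten.Defs

/-!
Checks for the subgroup PΩ₈⁺(3).S₃ of the presented group Fi23: eleven transpositions act on 1080 points as
reflections in vectors of norm two, and only the identity fixes all of these points.
-/

set_option autoImplicit false

namespace CfsgLib.Sporadic.Fi23Tri

open CosetCert CosetCert.Fi23Data CosetCert.Fi23P.OutFi
open Fi23Ten (imgS)

/-- An entry of a packed list. -/
def unpack (T : List ℕ) (n w i : ℕ) : ℕ :=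
  Nat.mod (Nat.shiftRight (T.getD (Nat.div i n) 0) (Nat.mul w (Nat.mod i n))) (2 ^ w)

/-- A point of the class. -/
def pt1 (i : ℕ) : ℕ := unpack ptT 40 15 i

/-- The vector of a point, as a number in base three. -/
def cd (i : ℕ) : ℕ := unpack vecT 40 13 i

/-- The point of a vector. -/
def look (c : ℕ) : ℕ := unpack lookT 81 11 c

/-- The points in the order of the orbit. -/
def ord (n : ℕ) : ℕ := unpack orbT 40 11 n

/-- A digit. -/
def dig (c j : ℕ) : ℕ := Nat.mod (Nat.div c (3 ^ j)) 3

/-- The number with given digits. -/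
def enc (f : ℕ → ℕ) : ℕ :=
  f 0 % 3 + 3 * (f 1 % 3 + 3 * (f 2 % 3 + 3 * (f 3 % 3 + 3 * (f 4 % 3 + 3 * (f 5 % 3 + 3 * (f 6 % 3 + 3 * (f 7 % 3)))))))

/-- The form. -/
def qc (c : ℕ) : ℕ :=
  Nat.mod (dig c 0 * dig c 4 + dig c 1 * dig c 5 + dig c 2 * dig c 6 + dig c 3 * dig c 7) 3

/-- The polar form. -/
def pc (a b : ℕ) : ℕ :=
  Nat.mod (dig a 0 * dig b 4 + dig a 4 * dig b 0 + (dig a 1 * dig b 5 + dig a 5 * dig b 1) +
    (dig a 2 * dig b 6 + dig a 6 * dig b 2) + (dig a 3 * dig b 7 + dig a 7 * dig b 3)) 3

/-- The negative. -/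
def negc (c : ℕ) : ℕ := enc fun j => 2 * dig c j

/-- The reflection in a vector of norm two. -/
def rc (a v : ℕ) : ℕ :=
  let t := pc a v
  enc fun j => dig v j + t * dig a j

/-- A generator. -/
def gi (k : ℕ) : ℕ := gIx.getD k 1080

/-- The half of a generator. -/
def gh (k : ℕ) : List ℕ × ℕ := gHalf.getD k ([], 0)

/-- The words of the transpositions in use. -/
noncomputable def halfsK : Bool :=
  (List.range 11).all (fun k => Nat.blt (gi k) 1080 && halfK (pt1 (gi k)) (gh k)) &&
    (List.range wSig.length).all (fun m => Nat.blt (wSig.getD m 1080) 1080 &&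
      (halfK (pt1 (wSig.getD m 1080)) (wHalf.getD m ([], 0)) &&
        Nat.beq (imgS [wHalf.getD m ([], 0)] wPt) wPt)) &&
    (List.range 28).all (fun m => Nat.blt (closPts.getD m 31671) 31671 &&
      halfK (closPts.getD m 31671) (closHalf.getD m ([], 0))) &&
    (List.range decIx.length).all (fun m => Nat.blt (decIx.getD m 1080) 1080 &&
      halfK (pt1 (decIx.getD m 1080)) (decHalf.getD m ([], 0))) &&
    Nat.blt outPt 31671 && halfK outPt outHalf && Nat.blt wPt 31671

/-- The vectors are the lines of norm two, one number for each. -/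
noncomputable def vecK : Bool :=
  (List.range 1080).all (fun i => Nat.blt (cd i) 6561 && (Nat.beq (qc (cd i)) 2 &&
    (Nat.beq (look (cd i)) i && (Nat.beq (look (negc (cd i))) i && Nat.blt (pt1 i) 31671)))) &&
  (List.range 6561).all fun c => !(Nat.beq (qc c) 2) ||
    (Nat.blt (look c) 1080 && (Nat.beq (cd (look c)) c || Nat.beq (negc (cd (look c))) c))

/-- The points differ. -/
noncomputable def nodupK : Bool :=
  (List.range 1080).all fun i => (List.range i).all fun j => !(Nat.beq (pt1 i) (pt1 j))

/-- A generator acts as its reflection. -/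
noncomputable def genK (k : ℕ) : Bool :=
  (List.range 1080).all fun i =>
    Nat.beq (imgS [gh k] (pt1 i)) (pt1 (look (rc (cd (gi k)) (cd i))))

/-- The class is one orbit. -/
noncomputable def orbK : Bool :=
  Nat.beq (ord 0) (gi 0) && Nat.beq (cd (gi 0)) 163 && Nat.beq orbDer.length 1079 &&
    (List.range 1079).all (fun n =>
      let d := orbDer.getD n (0, 11, 1080)
      Nat.blt d.2.1 11 && (Nat.blt d.2.2 (n + 1) && (Nat.beq (ord (n + 1)) d.1 &&
        Nat.beq (look (rc (cd (gi d.2.1)) (cd (ord d.2.2)))) d.1))) &&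
    (List.range 1080).all fun i => (List.range 1080).any fun n => Nat.beq (ord n) i

/-- The points of the generators of Fi23 are derived from the class and one point. -/
noncomputable def closK : Bool :=
  Nat.beq (closPts.getD 0 31671) wPt &&
    (List.range 13).all (fun m => Nat.blt (leafIx.getD m 1080) 1080 &&
      Nat.beq (closPts.getD (m + 1) 31671) (pt1 (leafIx.getD m 1080))) &&
    (List.range 14).all (fun m =>
      let d := closDer.getD m (28, 28)
      Nat.blt d.1 (14 + m) && (Nat.blt d.2 (14 + m) &&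
        Nat.beq (imgS [closHalf.getD d.1 ([], 0)] (closPts.getD d.2 31671)) (closPts.getD (14 + m) 31671))) &&
    (List.range 10).all fun x => Nat.blt (genIx.getD x 28) 28 &&
      Nat.beq (closPts.getD (genIx.getD x 28) 31671) (CosetCert.Fi23P.Two.genPts.getD x 31671)

/-- A point other than the extra one differs in signature. -/
noncomputable def scanX (s n : ℕ) : Bool :=
  (List.range n).all fun i =>
    Nat.beq (s + i) wPt || wHalf.any fun h => !(Nat.beq (imgS [h] (s + i)) (s + i))

/-- The halves of a product of members of the class. -/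
def decSeq (k : ℕ) : List (List ℕ × ℕ) := (decW.getD k []).map fun u => decHalf.getD u ([], 0)

/-- The outer transposition normalises, and does not preserve the class. -/
noncomputable def outK : Bool :=
  (List.range 10).all (fun k => (decW.getD k []).all (fun u => Nat.blt u decIx.length) &&
    (Nat.beq (Nat.mod (decW.getD k []).length 2) 0 &&
      Fi23Ten.sameSix [outHalf, gh 0, gh (k + 1), outHalf] (decSeq k))) &&
  !(Nat.beq (imgS [gh 0] outPt) outPt) && Nat.beq (imgS [gh 0] (pt1 (gi 1))) (pt1 (gi 1)) &&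
  !(Nat.beq (gi 0) (gi 1)) && Nat.blt witIx 1080 &&
  (List.range 1080).all fun i => !(Nat.beq (imgS [outHalf] (pt1 witIx)) (pt1 i)) &&
    !(Nat.beq (imgS [gh 0, outHalf] (pt1 witIx)) (pt1 i))

end CfsgLib.Sporadic.Fi23Tri
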