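import Cfsg.Agent.Lib.Sporadic.FiTransfer.Fi23Tri.Fit
import Cfsg.Agent.Lib.Orth.Sum
import Cfsg.Agent.Lib.Classical.OrthCount
import Cfsg.Agent.Lib.ThreeTransp.TypeTwentyFour.Base
import Cfsg.Agent.S1686

/-!
The centraliser of the base transposition among the even products is the orthogonal group in dimension seven.
-/

set_option autoImplicit false
set_option maxRecDepth 100000

open Cfsg.Spor

namespace CfsgLib.Sporadic.Fi23Tri

open CosetCert CosetCert.Fi23Data CosetCert.Fi23P CosetCert.Fi23P.OutFi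
open CosetCert.Fi23P.Two (el el_img dp conj_dp comm_of_fix)
open CfsgLib.Orth CfsgLib.Classical

attribute [local irreducible] PTab.img Forest.cls Fi23Ten.imgS cd look pt1 unpack rc

theorem xd_injective : Function.Injective xd := dp_injective.comp dP_inj

/-- The form in dimension seven. -/
noncomputable abbrev Q7 : QuadraticForm (ZMod 3) (Unit ⊕ (Fin 3 ⊕ Fin 3) → ZMod 3) := oddForm (ZMod 3) 3

/-- The form on the line left over. -/
noncomputable def Q1 : QuadraticForm (ZMod 3) (Unit → ZMod 3) :=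
  (2 : ZMod 3) • QuadraticMap.linMulLin (LinearMap.proj ()) (LinearMap.proj ())

theorem Q1_apply (v : Unit → ZMod 3) : Q1 v = 2 * (v () * v ()) := rfl

theorem Q1_nondeg : (QuadraticMap.polarBilin Q1).Nondegenerate := by
  refine nondegenerate_of_left fun v hv => funext fun k => ?_
  show v () = 0
  have h := hv fun _ => 1
  simp only [QuadraticMap.polar, Q1_apply, Pi.add_apply] at h
  revert h
  generalize v () = t
  revert t
  decide

theorem Q7_nondeg : (QuadraticMap.polarBilin Q7).Nondegenerate := oddForm_nondeg 3 two_ne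

/-- Coordinates adapted to the base vector. -/
def tl : ((Unit ⊕ (Fin 3 ⊕ Fin 3)) ⊕ Unit → ZMod 3) ≃ₗ[ZMod 3] V8 where
  toFun a := Sum.elim
    (Fin.cons (a (.inl (.inl ())) + a (.inr ())) fun i => a (.inl (.inr (.inl i))))
    (Fin.cons (a (.inl (.inl ())) + 2 * a (.inr ())) fun i => a (.inl (.inr (.inr i))))
  map_add' a b := by
    funext x
    rcases x with k | k <;> refine Fin.cases ?_ (fun i => ?_) k <;>
      simp only [Pi.add_apply, Sum.elim_inl, Sum.elim_inr, Fin.cons_zero, Fin.cons_succ] <;> ring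
  map_smul' c a := by
    funext x
    rcases x with k | k <;> refine Fin.cases ?_ (fun i => ?_) k <;>
      simp only [Pi.smul_apply, smul_eq_mul, RingHom.id_apply, Sum.elim_inl, Sum.elim_inr, Fin.cons_zero,
        Fin.cons_succ] <;> ring
  invFun v := Sum.elim
    (Sum.elim (fun _ => 2 * v (.inl 0) - v (.inr 0))
      (Sum.elim (fun i => v (.inl i.succ)) fun i => v (.inr i.succ)))
    fun _ => v (.inr 0) - v (.inl 0)
  left_inv a := by
    funext x
    rcases x with (⟨⟩ | i | i) | ⟨⟩ <;>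
      simp only [Sum.elim_inl, Sum.elim_inr, Fin.cons_zero, Fin.cons_succ] <;> ring
  right_inv v := by
    funext x
    rcases x with k | k <;> refine Fin.cases ?_ (fun i => ?_) k <;>
      simp only [Sum.elim_inl, Sum.elim_inr, Fin.cons_zero, Fin.cons_succ] <;> ring

theorem Q8_tl (a : (Unit ⊕ (Fin 3 ⊕ Fin 3)) ⊕ Unit → ZMod 3) : Q8 (tl a) = sumForm Q7 Q1 a := by
  rw [← sumForm_apply, ← plusForm_apply, ← oddForm_apply, Q1_apply, Cfsg.quadFormPlus, Cfsg.quadFormOdd,
    Fin.sum_univ_succ]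
  simp only [tl, LinearEquiv.coe_mk, LinearMap.coe_mk, AddHom.coe_mk, Sum.elim_inl, Sum.elim_inr,
    Fin.cons_zero, Fin.cons_succ, Function.comp_apply]
  linear_combination (a (.inl (.inl ())) * a (.inr ())) * (by decide : (3 : ZMod 3) = 0)

theorem vc_gn0 : vc (gn 0) = tl (Sum.elim 0 1) := by
  have h := orb_ok
  simp only [orbK, Bool.and_eq_true, Nat.beq_eq] at h
  show vv (cd (gi 0)) = _
  rw [h.1.1.1.2]
  funext x
  revert x
  decide +kernel

/-- The orthogonal group of dimension seven inside the one of dimension eight. -/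
noncomputable def emb : orthGroup Q7 →* G8 :=
  (orthGroupCongr tl Q8_tl).toMonoidHom.comp (exists_inlHom Q7_nondeg Q1_nondeg).choose

theorem emb_tl (g : orthGroup Q7) (a : (Unit ⊕ (Fin 3 ⊕ Fin 3)) ⊕ Unit → ZMod 3) :
    (emb g).1 (tl a) = tl (Sum.elim (g.1 (a ∘ Sum.inl)) (a ∘ Sum.inr)) := by
  show tl (((exists_inlHom Q7_nondeg Q1_nondeg).choose g).1 (tl.symm (tl a))) = _
  rw [LinearEquiv.symm_apply_apply, (exists_inlHom Q7_nondeg Q1_nondeg).choose_spec.1]

theorem emb_fix (g : orthGroup Q7) : (emb g).1 (vc (gn 0)) = vc (gn 0) := by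
  rw [vc_gn0, emb_tl, Sum.elim_comp_inl, Sum.elim_comp_inr, map_zero]

theorem emb_mem {g : orthGroup Q7} (hg : g ∈ commutator (orthGroup Q7)) : emb g ∈ commutator G8 := by
  rw [mem_commutator_iff] at hg ⊢
  have e := congrArg (Abelianization.map emb) hg
  rwa [Abelianization.map_of, map_one] at e

theorem emb_line_eq_one {g : orthGroup Q7} (h : lineHom (emb g) = 1) : g = 1 := by
  rcases ker_lineHom h with e | e
  · refine Subtype.ext (LinearEquiv.ext fun v => ?_)
    have e' : (emb g).1 (tl (Sum.elim v 0)) = tl (Sum.elim v 0) := by rw [e]; rfl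
    rw [emb_tl, Sum.elim_comp_inl, Sum.elim_comp_inr] at e'
    have := congrArg (fun f => f ∘ Sum.inl) (tl.injective e')
    simpa using this
  · exfalso
    have h1 := emb_fix g
    rw [e, show (negEl Q8).1 (vc (gn 0)) = -vc (gn 0) by simp [negEl]] at h1
    have h2 := Q8_vc (gn 0)
    rw [show vc (gn 0) = 0 from funext fun x => by
      show vc (gn 0) x = 0
      have := congrFun h1 x
      rw [Pi.neg_apply] at this
      revert this
      generalize vc (gn 0) x = t
      revert t
      decide, QuadraticMap.map_zero] at h2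
    exact absurd h2 (by decide)

theorem R8_trans (i : Fin 1080) : ∃ h ∈ R8, lineHom h (gn 0) = i := by
  have h := orb_ok
  simp only [orbK, Bool.and_eq_true, List.all_eq_true, List.any_eq_true, List.mem_range, Nat.blt_eq,
    Nat.beq_eq] at h
  obtain ⟨⟨⟨⟨h0, -⟩, -⟩, hd⟩, hall⟩ := h
  have key : ∀ n < 1080, ∃ h ∈ R8, (lineHom h (gn 0)).val = ord n := by
    intro n
    induction n using Nat.strong_induction_on with
    | _ n ih =>
      intro hn
      rcases n with _ | n
      · exact ⟨1, one_mem _, by rw [map_one]; exact h0.symm⟩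
      · obtain ⟨d1, d2, d3, d4⟩ := hd n (by omega)
        generalize orbDer.getD n (0, 11, 1080) = d at d1 d2 d3 d4
        obtain ⟨g, hg, hj⟩ := ih d.2.2 (by omega) (by omega)
        rw [← hj] at d4
        refine ⟨rl (gn ⟨d.2.1, d1⟩) * g, mul_mem (Subgroup.subset_closure ⟨_, rfl⟩) hg, ?_⟩
        rw [map_mul, Equiv.Perm.mul_apply, lineHom_rl (gn ⟨d.2.1, d1⟩) (lineHom g (gn 0)) rfl (look_rc_lt _ _),
          d3, ← d4]
        rfl
  obtain ⟨n, hn, e⟩ := hall i i.2
  obtain ⟨g, hg, hj⟩ := key n hn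
  exact ⟨g, hg, Fin.ext (hj.trans e)⟩

theorem rl_self (k : Fin 1080) : lineHom (rl k) k = k := by
  rw [lineHom_apply]
  refine lineOf_eq (Or.inr ?_)
  rw [rl]
  exact refl_self Q8 (by rw [Q8_vc]; decide)

theorem range_trans (i : Fin 1080) : ∃ p ∈ rho.range, p (gn 0) = i := by
  obtain ⟨h, hh, he⟩ := R8_trans i
  rcases R8_cases h hh (gn 0) with hs | hs
  · exact ⟨lineHom h, rho_range.ge ⟨h, commutator_eq_S8.ge hs, rfl⟩, he⟩
  · exact ⟨lineHom (h * rl (gn 0)), rho_range.ge ⟨_, commutator_eq_S8.ge hs, rfl⟩,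
      by rw [map_mul, Equiv.Perm.mul_apply, rl_self, he]⟩

theorem card_E : Nat.card E = 4952179814400 := by
  obtain ⟨e⟩ := E_pomega
  rw [Nat.card_congr e.toEquiv]
  exact CfsgLib.ThreeTransp.TypeTwentyFour.card_pomega

/-- The stabiliser of the base point. -/
noncomputable abbrev St : Subgroup ↥rho.range := MulAction.stabilizer ↥rho.range (gn 0)

theorem card_St : Nat.card St = 4585351680 := by
  haveI : MulAction.IsPretransitive ↥rho.range (Fin 1080) := MulAction.isPretransitive_iff_base (gn 0) |>.2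
    fun i => by
      obtain ⟨p, hp, e⟩ := range_trans i
      exact ⟨⟨p, hp⟩, e⟩
  have h := St.card_mul_index
  rw [MulAction.index_stabilizer_of_transitive, Nat.card_fin,
    ← Nat.card_congr (MonoidHom.ofInjective rho_inj).toEquiv, card_E] at h
  omega

theorem card_omega7 : Nat.card ↥(commutator (orthGroup Q7)) = 4585351680 := by
  have hi := index_commutator_odd (Q := Q7) Q7_nondeg two_ne
    (by rw [Module.finrank_fintype_fun_eq_card]; simp)
  have hc := card_orth_odd (F := ZMod 3) (q := 3) (ZMod.card 3) two_ne 3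
  have h := (commutator (orthGroup Q7)).card_mul_index
  rw [hi, hc] at h
  norm_num [Finset.prod_range_succ] at h
  omega

theorem St_iso : Nonempty (↥St ≃* Cfsg.POmega (ZMod 3) (Cfsg.quadFormOdd 3 (ZMod 3))) := by
  obtain ⟨e⟩ := Cfsg.Agent.S1686.center_free
  let f : ↥(commutator (orthGroup Q7)) →* ↥St :=
    { toFun := fun g => ⟨⟨lineHom (emb g.1), rho_range.ge ⟨_, emb_mem g.2, rfl⟩⟩,
        lineOf_eq (Or.inl (emb_fix g.1))⟩
      map_one' := Subtype.ext (Subtype.ext (by show lineHom (emb 1) = 1; rw [map_one, map_one]))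
      map_mul' := fun a b => Subtype.ext (Subtype.ext (by
        show lineHom (emb (a.1 * b.1)) = lineHom (emb a.1) * lineHom (emb b.1); rw [map_mul, map_mul])) }
  have hf : Function.Injective f := (injective_iff_map_eq_one f).2 fun g hg =>
    Subtype.ext (emb_line_eq_one (congrArg (fun z : St => z.1.1) hg))
  haveI : Finite ↥(commutator (orthGroup Q7)) := Nat.finite_of_card_ne_zero (by rw [card_omega7]; decide)
  haveI : Finite ↥St := Nat.finite_of_card_ne_zero (by rw [card_St]; decide)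
  exact ⟨(MulEquiv.ofBijective f
    ((Nat.bijective_iff_injective_and_card _).2 ⟨hf, by rw [card_omega7, card_St]⟩)).symm.trans e⟩

theorem mem_C0 {g : Fi23} (hg : g ∈ E) : g ∈ C0 ↔ rho ⟨g, hg⟩ (gn 0) = gn 0 := by
  obtain ⟨h, -, hc⟩ := E_compat hg
  rw [rho_eq (g := ⟨g, hg⟩) hc, C0, Subgroup.mem_inf, and_iff_right hg, Subgroup.mem_centralizer_singleton_iff,
    ← mul_inv_eq_iff_eq_mul, show g * aa * g⁻¹ = xd (lineHom h (gn 0)) from (hc.conj (gn 0)).1]
  exact xd_injective.eq_iff

theorem C0_iso : Nonempty (↥C0 ≃* Cfsg.POmega (ZMod 3) (Cfsg.quadFormOdd 3 (ZMod 3))) := by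
  obtain ⟨e⟩ := St_iso
  let f : ↥C0 →* ↥St :=
    { toFun := fun g => ⟨rho.rangeRestrict ⟨g.1, g.2.1⟩, (mem_C0 g.2.1).1 g.2⟩
      map_one' := Subtype.ext (map_one rho.rangeRestrict)
      map_mul' := fun a b => Subtype.ext (map_mul rho.rangeRestrict ⟨a.1, a.2.1⟩ ⟨b.1, b.2.1⟩) }
  refine ⟨(MulEquiv.ofBijective f ⟨fun a b h => ?_, fun z => ?_⟩).trans e⟩
  · exact Subtype.ext (congrArg (fun z : E => z.1)
      (@rho_inj ⟨a.1, a.2.1⟩ ⟨b.1, b.2.1⟩ (congrArg (fun z : St => z.1.1) h)))
  · obtain ⟨⟨p, g, rfl⟩, hz⟩ := z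
    exact ⟨⟨g.1, (mem_C0 g.2).2 hz⟩, rfl⟩

end CfsgLib.Sporadic.Fi23Tri
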