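import Cfsg.Agent.Lib.Sporadic.FiTransfer.Fi23Tri.Defs

/-!
Kernel checks for the subgroup PΩ₈⁺(3).S₃ of Fi23.
-/

set_option autoImplicit false
set_option maxRecDepth 100000
set_option maxHeartbeats 0

namespace CfsgLib.Sporadic.Fi23Tri

theorem gen0 : genK 0 = true := by decide +kernel
theorem gen1 : genK 1 = true := by decide +kernel
theorem gen2 : genK 2 = true := by decide +kernel
theorem gen3 : genK 3 = true := by decide +kernel
theorem gen4 : genK 4 = true := by decide +kernel
theorem gen5 : genK 5 = true := by decide +kernel

end CfsgLib.Sporadic.Fi23Tri
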