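import Cfsg.Agent.Lib.Sporadic.FiTransfer.Fi23Tri.Defs

/-!
Kernel checks for the subgroup PΩ₈⁺(3).S₃ of Fi23.
-/

set_option autoImplicit false
set_option maxRecDepth 100000
set_option maxHeartbeats 0
set_option Elab.async false

namespace CfsgLib.Sporadic.Fi23Tri

theorem halfs_ok : halfsK = true := by decide +kernel
theorem vec_ok : vecK = true := by decide +kernel
theorem nodup_part0 : (List.range' 0 624).all
    (fun i => (List.range i).all fun j => !(Nat.beq (pt1 i) (pt1 j))) = true := by decide +kernel

theorem nodup_part1 : (List.range' 624 258).all
    (fun i => (List.range i).all fun j => !(Nat.beq (pt1 i) (pt1 j))) = true := by decide +kernel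

theorem nodup_part2 : (List.range' 882 198).all
    (fun i => (List.range i).all fun j => !(Nat.beq (pt1 i) (pt1 j))) = true := by decide +kernel

theorem nodup_all : (List.range 1080).all
    (fun i => (List.range i).all fun j => !(Nat.beq (pt1 i) (pt1 j))) = true := by
  rw [show List.range 1080 = List.range' 0 624 ++ List.range' 624 258 ++ List.range' 882 198 from by decide +kernel]
  simp only [List.all_append, nodup_part0, nodup_part1, nodup_part2, Bool.and_self]

theorem nodup_ok : nodupK = true := nodup_all
theorem orb_part0 : (List.range' 0 360).all
    (fun i => (List.range 1080).any fun n => Nat.beq (ord n) i) = true := by decide +kernel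

theorem orb_part1 : (List.range' 360 360).all
    (fun i => (List.range 1080).any fun n => Nat.beq (ord n) i) = true := by decide +kernel

theorem orb_part2 : (List.range' 720 360).all
    (fun i => (List.range 1080).any fun n => Nat.beq (ord n) i) = true := by decide +kernel

theorem orb_all : (List.range 1080).all
    (fun i => (List.range 1080).any fun n => Nat.beq (ord n) i) = true := by
  conv_lhs =>
    arg 1
    rw [show List.range 1080 = List.range' 0 360 ++ List.range' 360 360 ++ List.range' 720 360 from by decide +kernel]
  simp only [List.all_append, orb_part0, orb_part1, orb_part2, Bool.and_self]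

/-- The listed derivation of the orbit. -/
theorem orb_der : (Nat.beq (ord 0) (gi 0) && Nat.beq (cd (gi 0)) 163 && Nat.beq orbDer.length 1079 &&
    (List.range 1079).all (fun n =>
      let d := orbDer.getD n (0, 11, 1080)
      Nat.blt d.2.1 11 && (Nat.blt d.2.2 (n + 1) && (Nat.beq (ord (n + 1)) d.1 &&
        Nat.beq (look (rc (cd (gi d.2.1)) (cd (ord d.2.2)))) d.1)))) = true := by decide +kernel

theorem orb_ok : orbK = true := Bool.and_eq_true_iff.2 ⟨orb_der, orb_all⟩
theorem clos_ok : closK = true := by decide +kernel
theorem out_ok : outK = true := by decide +kernel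

end CfsgLib.Sporadic.Fi23Tri
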