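import Cfsg.Agent.Lib.Sporadic.FiTransfer.Fi23Tri.Struct

/-!
The generalised Fitting subgroup of the subgroup, its transpositions, and the centraliser of one of them.
-/

set_option autoImplicit false
set_option maxRecDepth 100000

open Cfsg.Spor
open scoped commutatorElement

namespace CfsgLib.Sporadic.Fi23Tri

open CosetCert CosetCert.Fi23Data CosetCert.Fi23P CosetCert.Fi23P.OutFi
open CosetCert.Fi23P.Two (el el_img dp conj_dp comm_of_fix)
open Fi23Ten (mkPt mkPt_val fix_of_comm mem_classTr23 dp_mem_classTr23 braid_dp classTr23)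

attribute [local irreducible] PTab.img Forest.cls Fi23Ten.imgS cd look pt1 unpack rc

theorem genFitting_L : Cfsg.generalizedFittingSubgroup ↥L = E.subgroupOf L := by
  haveI := finite
  set N := E.subgroupOf L with hN
  haveI hn : N.Normal := E_subgroupOf_normal
  haveI := E_simple
  haveI hs : IsSimpleGroup ↥N := (Subgroup.subgroupOfEquivOfLe E_le).isSimpleGroup
  have hnc : ¬ IsMulCommutative ↥N := fun h => by
    obtain ⟨a, ha, b, hb, hne⟩ := not_commute_EE
    exact hne (congrArg (fun z : N => ((z : L) : Fi23))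
      (h.is_comm.comm (⟨⟨a, E_le ha⟩, ha⟩ : N) ⟨⟨b, E_le hb⟩, hb⟩))
  have hz : Subgroup.center ↥N = ⊥ := by
    rcases IsSimpleGroup.eq_bot_or_eq_top_of_normal (Subgroup.center ↥N) inferInstance with h | h
    · exact h
    · exact absurd ⟨⟨fun a b => Subgroup.mem_center_iff.1 (h ▸ Subgroup.mem_top b : b ∈ Subgroup.center ↥N) a⟩⟩ hnc
  have hcomp : Cfsg.IsComponent N := by
    refine ⟨Subgroup.Normal.isSubnormal hn, ?_, ?_⟩
    · rw [Group.isPerfect_def]
      rcases IsSimpleGroup.eq_bot_or_eq_top_of_normal (commutator ↥N) inferInstance with h | h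
      · exact absurd ((commutator_eq_bot_iff _).1 h) hnc
      · exact h
    · exact ((QuotientGroup.quotientMulEquivOfEq hz).trans QuotientGroup.quotientBot).isSimpleGroup
  have hcen : Subgroup.centralizer (N : Set L) = ⊥ := by
    rw [Subgroup.eq_bot_iff_forall]
    intro g hg
    refine Subtype.ext (centralizer_E g.2 fun e he => ?_)
    exact (congrArg Subtype.val (Subgroup.mem_centralizer_iff.1 hg ⟨e, E_le he⟩ he)).symm
  refine le_antisymm (CfsgLib.Components.generalizedFitting_le_of_centralizer_le N ?_ (hcen ▸ bot_le)) ?_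
  · set F := Cfsg.fittingSubgroup ↥L
    have hFN : F ⊓ N = ⊥ := by
      rcases IsSimpleGroup.eq_bot_or_eq_top_of_normal ((F ⊓ N).subgroupOf N) inferInstance with h | h
      · rw [Subgroup.subgroupOf_eq_bot] at h
        exact le_bot_iff.1 (h le_rfl inf_le_right)
      · exfalso
        rw [Subgroup.subgroupOf_eq_top, le_inf_iff] at h
        have hnil : Group.IsNilpotent ↥(N.subgroupOf F) := inferInstance
        have hnil' : Group.IsNilpotent ↥N :=
          (Group.isNilpotent_congr (Subgroup.subgroupOfEquivOfLe h.1)).1 hnil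
        haveI : Group.IsSolvable ↥N := inferInstance
        exact hnc ⟨⟨IsSimpleGroup.comm_iff_isSolvable.2 inferInstance⟩⟩
    intro x hx
    have hxc : x ∈ Subgroup.centralizer (N : Set L) := Subgroup.mem_centralizer_iff.2 fun y hy => by
      have h1 : ⁅y, x⁆ ∈ F ⊓ N := Subgroup.commutator_le_inf F N
        (Subgroup.commutator_comm N F ▸ Subgroup.commutator_mem_commutator hy hx)
      rw [hFN, Subgroup.mem_bot] at h1
      exact commutatorElement_eq_one_iff_mul_comm.1 h1
    rw [hcen, Subgroup.mem_bot] at hxc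
    rw [hxc]; exact one_mem _
  · exact (CfsgLib.Components.IsComponent.le_layer hcomp).trans
      CfsgLib.Components.layer_le_generalizedFittingSubgroup

/-- A transposition stabilising the class belongs to it. -/
theorem member_of_pres {p : Fin table.N} (h : Pres (dp p)) : ∃ i, dp p = xd i := by
  by_cases hall : ∀ i, hom (dp p) (dP i) = dP i
  · exact absurd (eq_one_of_fix_class hall) (dp_ne_one p)
  · push Not at hall
    obtain ⟨i, hne⟩ := hall
    have hp := braid_dp hne
    obtain ⟨j, hj⟩ := h i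
    rw [hj, show hom (dp (dP i)) (dP j) = dP (lineHom (rl i) j) from compat_xd i j] at hp
    exact ⟨lineHom (rl i) j, by rw [xd, hp]⟩

theorem xd_conj_base (i : Fin 1080) : ∃ g ∈ L, g * aa * g⁻¹ = xd i := by
  have h := orb_ok
  simp only [orbK, Bool.and_eq_true, List.all_eq_true, List.any_eq_true, List.mem_range, Nat.blt_eq,
    Nat.beq_eq] at h
  obtain ⟨⟨⟨⟨h0, -⟩, -⟩, hd⟩, hall⟩ := h
  have key : ∀ n < 1080, ∃ g ∈ L, ∃ i : Fin 1080, i.val = ord n ∧ g * aa * g⁻¹ = xd i := by
    intro n
    induction n using Nat.strong_induction_on with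
    | _ n ih =>
      intro hn
      rcases n with _ | n
      · exact ⟨1, one_mem _, gn 0, h0.symm, by rw [one_mul, inv_one, mul_one]; rfl⟩
      · obtain ⟨d1, d2, d3, d4⟩ := hd n (by omega)
        generalize orbDer.getD n (0, 11, 1080) = d at d1 d2 d3 d4
        obtain ⟨g, hg, j, hj, e⟩ := ih d.2.2 (by omega) (by omega)
        rw [← hj] at d4
        refine ⟨xd (gn ⟨d.2.1, d1⟩) * g, mul_mem (xd_mem_L _) hg, lineHom (rl (gn ⟨d.2.1, d1⟩)) j, ?_, ?_⟩
        · rw [lineHom_rl (gn ⟨d.2.1, d1⟩) j rfl (look_rc_lt _ _), d3, ← d4]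
          rfl
        · rw [← ((compat_xd (gn ⟨d.2.1, d1⟩)).conj j).1, ← e]; group
  obtain ⟨n, hn, e⟩ := hall i i.2
  obtain ⟨g, hg, j, hj, hc⟩ := key n hn
  exact ⟨g, hg, by rw [hc, show j = i from Fin.ext (hj.trans e)]⟩

/-- The transpositions in the subgroup are conjugate in it. -/
theorem conj_in_L {x : Fi23} (hx : x ∈ classTr23) (hxL : x ∈ L) : ∃ g ∈ L, g * aa * g⁻¹ = x := by
  obtain ⟨p, rfl⟩ := mem_classTr23.1 hx
  haveI := finite
  by_cases hP : Pres (dp p)
  · obtain ⟨i, hi⟩ := member_of_pres hP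
    exact hi ▸ xd_conj_base i
  · -- some element of the three cosets brings `dp p` into the stabiliser
    set π := three ⟨dp p, hxL⟩ with hπ
    have h2 : π * π = 1 := by
      rw [hπ, ← map_mul, show (⟨dp p, hxL⟩ : L) * ⟨dp p, hxL⟩ = 1 from Subtype.ext (dp_sq p), map_one]
    obtain ⟨m, hm⟩ := (show ∀ π : Equiv.Perm (Fin 3), π * π = 1 → ∃ m, π m = m by decide) π h2
    have hfix : (⟨dp p, hxL⟩ : L) • (cosetEquiv m) = cosetEquiv m := by
      have := congrArg cosetEquiv hm
      rwa [hπ, show three ⟨dp p, hxL⟩ m = cosetEquiv.symm ((⟨dp p, hxL⟩ : L) • cosetEquiv m) from rfl,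
        Equiv.apply_symm_apply] at this
    have hP' : Pres ((rep m)⁻¹ * dp p * rep m) := by
      have := mem_P.1 (QuotientGroup.eq.1 hfix.symm)
      simpa [mul_assoc] using this
    have e1 : (rep m)⁻¹ * dp p * rep m = dp (hom (rep m)⁻¹ p) := by
      rw [← conj_dp, inv_inv]
    rw [e1] at hP'
    obtain ⟨i, hi⟩ := member_of_pres hP'
    obtain ⟨g, hg, hgi⟩ := xd_conj_base i
    refine ⟨rep m * g, mul_mem (rep_mem m) hg, ?_⟩
    rw [show rep m * g * aa * (rep m * g)⁻¹ = rep m * (g * aa * g⁻¹) * (rep m)⁻¹ by group, hgi, ← hi, ← e1]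
    group

/-- The centraliser of the base transposition in the subgroup of even products. -/
noncomputable def C0 : Subgroup Fi23 := E ⊓ Subgroup.centralizer ({aa} : Set Fi23)

theorem centralizer_split {g : Fi23} (hg : g ∈ L ⊓ Subgroup.centralizer ({aa} : Set Fi23)) :
    g ∈ C0 ∨ g * aa ∈ C0 := by
  obtain ⟨h1, h2⟩ := Subgroup.mem_inf.1 hg
  have hc : Commute g aa := Subgroup.mem_centralizer_singleton_iff.1 h2
  rcases inP_of_pres h1 (pres_of_commute h1 hc) with h | h
  · exact Or.inl ⟨h, h2⟩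
  · exact Or.inr ⟨h, Subgroup.mem_centralizer_singleton_iff.2 (hc.mul_left (Commute.refl aa)).eq⟩

theorem centralizer_prod :
    Nonempty (↥(L ⊓ Subgroup.centralizer ({aa} : Set Fi23)) ≃* Multiplicative (ZMod 2) × ↥C0) := by
  haveI := finite
  set X := L ⊓ Subgroup.centralizer ({aa} : Set Fi23) with hX
  have haX : aa ∈ X := ⟨aa_mem, Subgroup.mem_centralizer_singleton_iff.2 rfl⟩
  have hCX : C0 ≤ X := inf_le_inf_right _ E_le
  let f : Multiplicative (ZMod 2) × C0 →* X :=
    { toFun := fun q => ⟨aa, haX⟩ ^ (Multiplicative.toAdd q.1).val * Subgroup.inclusion hCX q.2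
      map_one' := by simp
      map_mul' := fun q r => by
        have hc : Commute (Subgroup.inclusion hCX q.2) (⟨aa, haX⟩ ^ (Multiplicative.toAdd r.1).val) :=
          (show Commute (Subgroup.inclusion hCX q.2) (⟨aa, haX⟩ : X) from
            Subtype.ext (Subgroup.mem_centralizer_singleton_iff.1 q.2.2.2)).pow_right _
        rw [Prod.fst_mul, Prod.snd_mul, show Multiplicative.toAdd (q.1 * r.1) = Multiplicative.toAdd q.1 + Multiplicative.toAdd r.1 from rfl, map_mul, ZMod.val_add, mul_assoc _ (Subgroup.inclusion hCX q.2),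
          ← mul_assoc (Subgroup.inclusion hCX q.2), hc.eq]
        rw [← pow_eq_pow_mod _ (show (⟨aa, haX⟩ : X) ^ 2 = 1 from Subtype.ext (by rw [pow_two]; exact aa_sq)),
          pow_add]
        simp only [mul_assoc] }
  refine ⟨(MulEquiv.ofBijective f ⟨(injective_iff_map_eq_one f).2 ?_, fun g => ?_⟩).symm⟩
  · rintro ⟨z, c⟩ h
    have h' : aa ^ (Multiplicative.toAdd z).val * (c : Fi23) = 1 := congrArg Subtype.val h
    rcases (show ∀ z : Multiplicative (ZMod 2), (Multiplicative.toAdd z).val = 0 ∧ z = 1 ∨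
      (Multiplicative.toAdd z).val = 1 by decide) z with ⟨hv, rfl⟩ | hv <;> rw [hv] at h'
    · rw [pow_zero, one_mul] at h'
      exact Prod.ext rfl (Subtype.ext h')
    · rw [pow_one, mul_eq_one_iff_eq_inv] at h'
      exact absurd (h' ▸ inv_mem c.2.1) aa_not_E
  · rcases centralizer_split g.2 with h | h
    · exact ⟨(1, ⟨_, h⟩), Subtype.ext (by show aa ^ 0 * (g : Fi23) = g; rw [pow_zero, one_mul])⟩
    · refine ⟨(Multiplicative.ofAdd 1, ⟨_, h⟩), Subtype.ext ?_⟩
      show aa ^ 1 * ((g : Fi23) * aa) = g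
      rw [pow_one, ← mul_assoc, ← (Subgroup.mem_centralizer_singleton_iff.1 g.2.2 : (g : Fi23) * aa = aa * g),
        mul_assoc, aa_sq, mul_one]

end CfsgLib.Sporadic.Fi23Tri
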