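import Cfsg.Agent.Lib.Sporadic.FiTransfer.Fi23Tri.Points
import Cfsg.Agent.Lib.Sporadic.FiTransfer.Fi23Ten.Base

/-!
The group generated by the class and an outer transposition: its three cosets and its transpositions.
-/

set_option autoImplicit false
set_option maxRecDepth 100000

open Cfsg.Spor

namespace CfsgLib.Sporadic.Fi23Tri

open CosetCert CosetCert.Fi23Data CosetCert.Fi23P CosetCert.Fi23P.OutFi
open CosetCert.Fi23P.Two (el el_img dp conj_dp comm_of_fix)
open Fi23Ten (mkPt mkPt_val dp_of_pts hom_sEl hom_sEl_eq sEl fix_of_comm)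

attribute [local irreducible] PTab.img Forest.cls Fi23Ten.imgS cd look pt1 unpack rc

/-- The transposition of the base line. -/
noncomputable def aa : Fi23 := xd (gn 0)

/-- The outer transposition. -/
noncomputable def bb : Fi23 := dp (mkPt outPt)

theorem out_pt : Fi23Ten.Good [outHalf] ∧ sEl [outHalf] = bb ∧ outPt < 31671 := by
  have h := halfs_ok
  simp only [halfsK, Bool.and_eq_true, Nat.blt_eq] at h
  exact ⟨(dp_of_pts h.1.1.2 h.1.2).1, (dp_of_pts h.1.1.2 h.1.2).2, h.1.1.2⟩

theorem aa_sq : aa * aa = 1 := xd_sq _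

theorem bb_sq : bb * bb = 1 := dp_sq _

theorem aa_inv : aa⁻¹ = aa := xd_inv _

theorem bb_inv : bb⁻¹ = bb := Fi23Ten.dp_inv _

theorem hom_aa_ne : hom aa (mkPt outPt) ≠ mkPt outPt := by
  intro e
  have h := out_ok
  simp only [outK, Bool.and_eq_true, Bool.not_eq_true'] at h
  obtain ⟨⟨⟨⟨⟨-, h1⟩, -⟩, -⟩, -⟩, -⟩ := h
  have e' := congrArg Fin.val e
  rw [aa, ← (gh_spec 0).2, hom_sEl (gh_spec 0).1, mkPt_val out_pt.2.2] at e'
  change Fi23Ten.imgS [gh 0] outPt = outPt at e'
  rw [Nat.beq_eq.mpr e'] at h1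
  exact absurd h1 (by decide)

theorem not_comm : ¬ Commute aa bb := fun h => hom_aa_ne (fix_of_comm h)

theorem braid : aa * bb * aa = bb * aa * bb := by
  rcases Fi23Ten.three_or (dP (gn 0)) (mkPt outPt) with e | e
  · refine absurd ?_ not_comm
    change (aa * bb) ^ 2 = 1 at e
    rw [pow_two, mul_eq_one_iff_eq_inv, mul_inv_rev, bb_inv, aa_inv] at e
    exact e
  · change (aa * bb) ^ 3 = 1 at e
    have e' : (aa * bb * aa) * (bb * aa * bb) = 1 := by
      rw [← e, pow_succ, pow_two]; simp only [mul_assoc]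
    rw [mul_eq_one_iff_eq_inv, mul_inv_rev, mul_inv_rev, bb_inv, aa_inv] at e'
    rw [e', mul_assoc]

theorem dec_halves {u : ℕ} (hu : u < decIx.length) : ∃ i, Fi23Ten.Good [decHalf.getD u ([], 0)] ∧
    sEl [decHalf.getD u ([], 0)] = xd i := by
  have h := halfs_ok
  simp only [halfsK, Bool.and_eq_true, List.all_eq_true, List.mem_range, Nat.blt_eq] at h
  obtain ⟨h1, h2⟩ := h.1.1.1.2 u hu
  exact ⟨⟨_, h1⟩, dp_of_pts (cd_spec h1).2.2.2.2 h2⟩

theorem decSeq_mem : ∀ (n : ℕ) (W : List ℕ), W.length = 2 * n → (∀ u ∈ W, u < decIx.length) →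
    Fi23Ten.Good (W.map fun u => decHalf.getD u ([], 0)) ∧ sEl (W.map fun u => decHalf.getD u ([], 0)) ∈ E := by
  intro n
  induction n with
  | zero =>
    intro W hW _
    rw [List.length_eq_zero_iff.1 hW, List.map_nil, Fi23Ten.sEl_nil]
    exact ⟨fun h hh => absurd hh List.not_mem_nil, one_mem _⟩
  | succ n ih =>
    intro W hW hlt
    match W, hW with
    | u :: v :: r, hW =>
      simp only [List.length_cons] at hW
      obtain ⟨i, gi', ei⟩ := dec_halves (hlt u (by simp))
      obtain ⟨j, gj', ej⟩ := dec_halves (hlt v (by simp))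
      obtain ⟨gr, hr⟩ := ih r (by omega) fun x hx => hlt x (by simp [hx])
      refine ⟨gi'.append (gj'.append gr), ?_⟩
      rw [List.map_cons, List.map_cons, show decHalf.getD u ([], 0) :: decHalf.getD v ([], 0) ::
        r.map (fun u => decHalf.getD u ([], 0)) = [decHalf.getD u ([], 0)] ++ ([decHalf.getD v ([], 0)] ++
        r.map (fun u => decHalf.getD u ([], 0))) from rfl, Fi23Ten.sEl_append, Fi23Ten.sEl_append, ei, ej,
        ← mul_assoc]
      exact mul_mem (xd_pair_mem i j) hr

theorem bb_conj {g : Fi23} (hg : g ∈ E) : bb * g * bb ∈ E := by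
  induction hg using Subgroup.closure_induction with
  | mem x hx =>
    obtain ⟨k, rfl⟩ := hx
    rcases Fin.eq_zero_or_eq_succ k with rfl | ⟨j, rfl⟩
    · rw [xd_sq, mul_one, bb_sq]; exact one_mem _
    · have h := out_ok
      simp only [outK, Bool.and_eq_true, List.all_eq_true, List.mem_range, Nat.blt_eq, Nat.beq_eq] at h
      obtain ⟨hlt, heven, hsame⟩ := h.1.1.1.1.1 j j.2
      obtain ⟨hgood, hmem⟩ := decSeq_mem ((decW.getD j []).length / 2) (decW.getD j [])
        (by change (decW.getD j []).length % 2 = 0 at heven; omega) hlt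
      have hA : Fi23Ten.Good [outHalf, gh 0, gh (j.val + 1), outHalf] :=
        out_pt.1.append ((gh_spec 0).1.append ((gh_spec j.succ).1.append out_pt.1))
      have e := Fi23Ten.eq_of_sameSix hA hgood hsame
      rw [show [outHalf, gh 0, gh (j.val + 1), outHalf] = [outHalf] ++ ([gh (0 : Fin 11)] ++ ([gh j.succ] ++ [outHalf]))
        from rfl, Fi23Ten.sEl_append, Fi23Ten.sEl_append, Fi23Ten.sEl_append, out_pt.2.1, (gh_spec 0).2,
        (gh_spec j.succ).2] at e
      rw [show bb * (xd (gn 0) * xd (gn j.succ)) * bb = bb * (xd (gn 0) * (xd (gn j.succ) * bb)) by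
        simp only [mul_assoc], e]
      exact hmem
  | one => rw [mul_one, bb_sq]; exact one_mem _
  | mul x y _ _ hx hy =>
    rw [show bb * (x * y) * bb = bb * x * bb * (bb * y * bb) by
      simp only [mul_assoc]; rw [← mul_assoc bb bb _, bb_sq, one_mul]]
    exact mul_mem hx hy
  | inv x _ hx =>
    have := inv_mem hx
    rwa [mul_inv_rev, mul_inv_rev, bb_inv, ← mul_assoc] at this

/-- The subgroup PΩ₈⁺(3).S₃. -/
noncomputable def L : Subgroup Fi23 := Subgroup.closure ({g | ∃ k : Fin 11, g = xd (gn k)} ∪ {bb})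

theorem aa_mem : aa ∈ L := Subgroup.subset_closure (Or.inl ⟨0, rfl⟩)

theorem bb_mem : bb ∈ L := Subgroup.subset_closure (Or.inr rfl)

theorem E_le : E ≤ L := (Subgroup.closure_le _).2 (by
  rintro _ ⟨k, rfl⟩
  exact mul_mem aa_mem (Subgroup.subset_closure (Or.inl ⟨k, rfl⟩)))

theorem E_normalized {g : Fi23} (hg : g ∈ L) {e : Fi23} (he : e ∈ E) : g * e * g⁻¹ ∈ E := by
  haveI := finite
  rw [L, ← Subgroup.mem_toSubmonoid, Subgroup.closure_toSubmonoid_of_finite] at hg
  induction hg using Submonoid.closure_induction generalizing e with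
  | one => simpa using he
  | mem x hx =>
    rcases hx with ⟨k, rfl⟩ | rfl
    · rw [xd_inv]
      have h1 := mul_mem (mul_mem (inv_mem (Subgroup.subset_closure ⟨k, rfl⟩ : xd (gn 0) * xd (gn k) ∈ E))
        (E_conj0 he)) (Subgroup.subset_closure ⟨k, rfl⟩ : xd (gn 0) * xd (gn k) ∈ E)
      have hsq : ∀ z, xd (gn 0) * (xd (gn 0) * z) = z := fun z => by rw [← mul_assoc, xd_sq, one_mul]
      rw [show (Subgroup.closure _ : Subgroup Fi23) = E from rfl] at h1
      simpa only [mul_inv_rev, xd_inv, mul_assoc, hsq] using h1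
    · rw [bb_inv]; exact bb_conj he
  | mul x y _ _ hx hy =>
    rw [mul_inv_rev, show x * y * e * (y⁻¹ * x⁻¹) = x * (y * e * y⁻¹) * x⁻¹ by group]
    exact hx (hy he)

/-- Preserving the class. -/
def Pres (g : Fi23) : Prop := ∀ i, ∃ j, hom g (dP i) = dP j

theorem pres_of_compat {g : Fi23} {h : G8} (c : Compat g h) : Pres g := fun i => ⟨_, c i⟩

theorem pres_E {g : Fi23} (hg : g ∈ E) : Pres g :=
  let ⟨_, _, c⟩ := E_compat hg; pres_of_compat c

theorem pres_aa : Pres aa := pres_of_compat (compat_xd _)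

theorem Pres.mul {g h : Fi23} (a : Pres g) (b : Pres h) : Pres (g * h) := fun i => by
  obtain ⟨j, hj⟩ := b i
  obtain ⟨k, hk⟩ := a j
  exact ⟨k, by rw [map_mul, Equiv.Perm.mul_apply, hj, hk]⟩

theorem Pres.inv {g : Fi23} (a : Pres g) : Pres g⁻¹ := by
  choose f hf using a
  have hinj : Function.Injective f := fun i j e => dP_inj ((hom g).injective (by rw [hf, hf, e]))
  intro i
  obtain ⟨j, rfl⟩ := (Finite.injective_iff_surjective.1 hinj) i
  exact ⟨j, by rw [← hf, map_inv, Equiv.Perm.inv_def, Equiv.symm_apply_apply]⟩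

theorem witness : witIx < 1080 ∧ ∀ i < 1080,
    Fi23Ten.imgS [outHalf] (pt1 witIx) ≠ pt1 i ∧ Fi23Ten.imgS [gh 0, outHalf] (pt1 witIx) ≠ pt1 i := by
  have h := out_ok
  simp only [outK, Bool.and_eq_true, List.all_eq_true, List.mem_range, Nat.blt_eq, Bool.not_eq_true'] at h
  refine ⟨h.1.2, fun i hi => ?_⟩
  obtain ⟨e1, e2⟩ := h.2 i hi
  exact ⟨fun e => by rw [Nat.beq_eq.mpr e] at e1; exact absurd e1 (by decide),
    fun e => by rw [Nat.beq_eq.mpr e] at e2; exact absurd e2 (by decide)⟩

theorem not_pres_bb : ¬ Pres bb := by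
  intro h
  obtain ⟨j, hj⟩ := h ⟨witIx, witness.1⟩
  have e := congrArg Fin.val hj
  rw [← out_pt.2.1, hom_sEl out_pt.1, dP_val, dP_val] at e
  exact (witness.2 j j.2).1 e

theorem not_pres_ab : ¬ Pres (aa * bb) := by
  intro h
  have := (pres_aa.mul h)
  rw [← mul_assoc, aa_sq, one_mul] at this
  exact not_pres_bb this

theorem not_pres_aba : ¬ Pres (aa * bb * aa) := by
  intro h
  have := (pres_aa.mul h).mul pres_aa
  rw [show aa * (aa * bb * aa) * aa = bb by
    rw [← mul_assoc, ← mul_assoc, aa_sq, one_mul, mul_assoc, aa_sq, mul_one]] at this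
  exact not_pres_bb this

theorem aa_not_E : aa ∉ E := by
  intro h
  obtain ⟨k, hk, c⟩ := E_compat h
  have e := lineHom_unique (compat_xd (gn 0)) c
  have e1 : lineHom (k⁻¹ * rl (gn 0)) = 1 := by rw [map_mul, map_inv, e, inv_mul_cancel]
  have hd : detHom (k⁻¹ * rl (gn 0)) = -1 := by
    rw [map_mul, det_S8 (inv_mem hk), one_mul]; exact det_rl _
  rcases ker_lineHom e1 with h1 | h1 <;> rw [h1] at hd
  · rw [map_one] at hd; exact absurd hd (by decide)
  · change LinearMap.det ((CfsgLib.Classical.negEl Q8).1 : V8 →ₗ[ZMod 3] V8) = -1 at hd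
    rw [show ((CfsgLib.Classical.negEl Q8).1 : V8 →ₗ[ZMod 3] V8) = (-1 : ZMod 3) • LinearMap.id from
      LinearMap.ext fun v => by simp [CfsgLib.Classical.negEl], LinearMap.det_smul, finrank8, LinearMap.det_id] at hd
    exact absurd hd (by decide)

/-- The three representatives. -/
noncomputable def rep : Fin 3 → Fi23 := ![1, bb, aa * bb]

theorem rep_mem : ∀ j, rep j ∈ L
  | 0 => one_mem _
  | 1 => bb_mem
  | 2 => mul_mem aa_mem bb_mem

/-- The set stabiliser of the class in `L`. -/
def InP (g : Fi23) : Prop := g ∈ E ∨ g * aa ∈ E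

theorem InP.pres {g : Fi23} (h : InP g) : Pres g := by
  rcases h with h | h
  · exact pres_E h
  · rw [show g = g * aa * aa by rw [mul_assoc, aa_sq, mul_one]]
    exact (pres_E h).mul pres_aa

theorem decomp {g : Fi23} (hg : g ∈ L) : ∃ j, InP ((rep j)⁻¹ * g) := by
  have hE : ∀ {z e : Fi23}, InP z → e ∈ E → InP (z * e) := by
    intro z e hz he
    rcases hz with h | h
    · exact Or.inl (mul_mem h he)
    · refine Or.inr ?_
      rw [show z * e * aa = z * aa * (aa * e * aa) by
        simp only [mul_assoc]; rw [← mul_assoc aa aa _, aa_sq, one_mul]]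
      exact mul_mem h (E_conj0 he)
  haveI := finite
  rw [L, ← Subgroup.mem_toSubmonoid, Subgroup.closure_toSubmonoid_of_finite] at hg
  suffices key : ∀ j, ∃ j', ∀ p, InP p → InP ((rep j')⁻¹ * (g * (rep j * p))) by
    obtain ⟨j', hj'⟩ := key 0
    have := hj' 1 (Or.inl (one_mem _))
    exact ⟨j', by simpa [rep] using this⟩
  induction hg using Submonoid.closure_induction with
  | one => exact fun j => ⟨j, fun p hp => by rwa [one_mul, inv_mul_cancel_left]⟩
  | mul x y _ _ hx hy =>
    intro j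
    obtain ⟨j1, h1⟩ := hy j
    obtain ⟨j2, h2⟩ := hx j1
    refine ⟨j2, fun p hp => ?_⟩
    have := h2 _ (h1 p hp)
    rwa [mul_inv_cancel_left, ← mul_assoc x] at this
  | mem x hx =>
    have hPa : ∀ {z}, InP z → InP (aa * z) := fun {z} hz => by
      rcases hz with h | h
      · refine Or.inr ?_
        exact E_conj0 h
      · refine Or.inl ?_
        rw [show aa * z = aa * (z * aa) * aa by simp only [mul_assoc, aa_sq, mul_one]]
        exact E_conj0 h
    have hPe : ∀ {z e}, e ∈ E → InP z → InP (e * z) := fun {z e} he hz => by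
      rcases hz with h | h
      · exact Or.inl (mul_mem he h)
      · exact Or.inr (by rw [mul_assoc]; exact mul_mem he h)
    -- moving a factor of E to the right
    have hmove : ∀ {e r z}, r ∈ L → e ∈ E → InP z → InP (r⁻¹ * (e * (r * z))) := fun {e r z} hr he hz => by
      have := hPe (E_normalized (inv_mem hr) he) hz
      rwa [inv_inv, mul_assoc, mul_assoc] at this
    have ha2 : ∀ z, aa * (aa * z) = z := fun z => by rw [← mul_assoc, aa_sq, one_mul]
    have hb2 : ∀ z, bb * (bb * z) = z := fun z => by rw [← mul_assoc, bb_sq, one_mul]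
    have haj : ∀ j, ∃ j', ∀ p, InP p → InP ((rep j')⁻¹ * (aa * (rep j * p))) := by
      intro j
      fin_cases j
      · exact ⟨0, fun p hp => by simpa [rep] using hPa hp⟩
      · exact ⟨2, fun p hp => by simpa [rep, mul_assoc, aa_inv, bb_inv, ha2, hb2] using hp⟩
      · exact ⟨1, fun p hp => by simpa [rep, mul_assoc, aa_inv, bb_inv, ha2, hb2] using hp⟩
    intro j
    rcases hx with ⟨k, rfl⟩ | rfl
    · obtain ⟨j', hj'⟩ := haj j
      refine ⟨j', fun p hp => ?_⟩
      have h := hj' p hp
      have he : xd (gn k) * aa ∈ E := xd_pair_mem _ _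
      have := hmove (rep_mem j') he h
      rw [mul_inv_cancel_left] at this
      rw [show xd (gn k) = xd (gn k) * aa * aa by rw [mul_assoc, aa_sq, mul_one], mul_assoc _ aa]
      exact this
    · fin_cases j
      · exact ⟨1, fun p hp => by simpa [rep, mul_assoc, bb_inv, hb2] using hp⟩
      · exact ⟨0, fun p hp => by simpa [rep, mul_assoc, hb2] using hp⟩
      · refine ⟨2, fun p hp => ?_⟩
        show InP ((aa * bb)⁻¹ * (bb * (aa * bb * p)))
        rw [show (aa * bb)⁻¹ * (bb * (aa * bb * p)) = aa * p by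
          rw [mul_inv_rev, aa_inv, bb_inv, show bb * (aa * bb * p) = bb * aa * bb * p by simp only [mul_assoc],
            ← braid]
          simp only [mul_assoc]
          rw [← mul_assoc aa aa _, aa_sq, one_mul, ← mul_assoc bb bb _, bb_sq, one_mul]]
        exact hPa hp

theorem rep_sep {i j : Fin 3} (h : Pres ((rep i)⁻¹ * rep j)) : i = j := by
  have hba : ¬ Pres (bb * aa) := fun h => by
    have := h.inv
    rw [mul_inv_rev, aa_inv, bb_inv] at this
    exact not_pres_ab this
  fin_cases i <;> fin_cases j <;> first | rfl | skip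
  · exact absurd (show Pres bb by simpa [rep] using h) not_pres_bb
  · exact absurd (show Pres (aa * bb) by simpa [rep] using h) not_pres_ab
  · exact absurd (show Pres bb by simpa [rep, bb_inv] using h) not_pres_bb
  · refine absurd (show Pres (aa * bb * aa) from ?_) not_pres_aba
    rw [braid]
    simpa [rep, bb_inv, mul_assoc] using h
  · exact absurd (show Pres (bb * aa) by simpa [rep, aa_inv, bb_inv] using h) hba
  · refine absurd (show Pres (aa * bb * aa) from ?_) not_pres_aba
    rw [braid]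
    simpa [rep, aa_inv, bb_inv, mul_assoc] using h

theorem inP_of_pres {g : Fi23} (hg : g ∈ L) (h : Pres g) : InP g := by
  obtain ⟨j, hj⟩ := decomp hg
  have hr : Pres ((rep 0)⁻¹ * rep j) := by
    have := h.mul hj.pres.inv
    rw [mul_inv_rev, inv_inv, mul_inv_cancel_left] at this
    simpa [rep] using this
  obtain rfl := rep_sep hr
  simpa [rep] using hj

end CfsgLib.Sporadic.Fi23Tri
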