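import Cfsg.Agent.Lib.Sporadic.FiTransfer.Fi23Tri.CheckVec
import Cfsg.Agent.Lib.Classical.OrthPOmega
import Cfsg.Agent.Lib.Classical.OrthSimple
import Cfsg.Agent.Lib.Orth.ReflClass

/-!
The orthogonal group of plus type in dimension eight over three elements acting on the 1080 lines of norm two.
-/

set_option autoImplicit false
set_option maxRecDepth 100000

namespace CfsgLib.Sporadic.Fi23Tri

open CfsgLib.Orth CfsgLib.Orth.ReflClass CfsgLib.Classical QuadraticMap

/-- The space. -/
abbrev V8 := Fin 4 ⊕ Fin 4 → ZMod 3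

/-- The form. -/
noncomputable abbrev Q8 : QuadraticForm (ZMod 3) V8 := plusForm (ZMod 3) 4

/-- The orthogonal group. -/
noncomputable abbrev G8 : Subgroup (V8 ≃ₗ[ZMod 3] V8) := orthGroup Q8

theorem Q8_nondeg : (QuadraticMap.polarBilin Q8).Nondegenerate := plusForm_nondeg 4

theorem two_ne : (2 : ZMod 3) ≠ 0 := by decide

theorem good8 : Good (ZMod 3) V8 := good_of_two_ne two_ne

theorem finrank8 : Module.finrank (ZMod 3) V8 = 8 := by rw [Module.finrank_pi]; rfl

/-- The vector of a number. -/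
def vv (c : ℕ) : V8 := Sum.elim (fun k => (dig c k.val : ZMod 3)) (fun k => (dig c (4 + k.val) : ZMod 3))

theorem dig_lt (c j : ℕ) : dig c j < 3 := Nat.mod_lt _ (by norm_num)

theorem cast_mod (n : ℕ) : ((Nat.mod n 3 : ℕ) : ZMod 3) = n := ZMod.natCast_mod n 3

theorem Q8_vv (c : ℕ) : Q8 (vv c) = (qc c : ZMod 3) := by
  rw [← plusForm_apply, Cfsg.quadFormPlus, Fin.sum_univ_four, qc, cast_mod]
  simp [vv]

theorem polar_vv (a b : ℕ) : polar Q8 (vv a) (vv b) = (pc a b : ZMod 3) := by
  rw [plusForm_polar, Fin.sum_univ_four, pc, cast_mod]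
  simp [vv]

theorem dig_enc (f : ℕ → ℕ) : ∀ j < 8, dig (enc f) j = f j % 3 := by
  intro j hj
  unfold dig enc
  show (_ / 3 ^ j) % 3 = _
  interval_cases j <;> norm_num <;> omega

theorem enc_lt (f : ℕ → ℕ) : enc f < 6561 := by unfold enc; omega

theorem vv_enc (f : ℕ → ℕ) :
    vv (enc f) = Sum.elim (fun k => (f k.val : ZMod 3)) (fun k => (f (4 + k.val) : ZMod 3)) := by
  funext x
  rcases x with k | k
  · simp only [vv, Sum.elim_inl, dig_enc f k.val (by omega), ZMod.natCast_mod]
  · simp only [vv, Sum.elim_inr, dig_enc f (4 + k.val) (by omega), ZMod.natCast_mod]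

theorem vv_negc (c : ℕ) : vv (negc c) = -vv c := by
  rw [negc, vv_enc]
  funext x
  rcases x with k | k <;>
    simp only [vv, Sum.elim_inl, Sum.elim_inr, Pi.neg_apply, Nat.cast_mul,
      show ((2 : ℕ) : ZMod 3) = -1 by decide, neg_one_mul]

theorem vv_rc {a : ℕ} (ha : qc a = 2) (v : ℕ) : vv (rc a v) = (refl Q8 (vv a)).1 (vv v) := by
  rw [refl_apply, Q8_vv, ha, polar_vv, rc, vv_enc, sub_eq_add_neg, ← neg_smul,
    show -(((2 : ℕ) : ZMod 3)⁻¹ * (pc a v : ZMod 3)) = pc a v by
      generalize (pc a v : ZMod 3) = t; revert t; decide +kernel]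
  funext x
  rcases x with k | k <;>
    simp only [vv, Sum.elim_inl, Sum.elim_inr, Pi.add_apply, Pi.smul_apply, smul_eq_mul, Nat.cast_add, Nat.cast_mul]

theorem exists_code (v : V8) : ∃ c < 6561, vv c = v := by
  let f : ℕ → ℕ := fun j => if h : j < 4 then (v (.inl ⟨j, h⟩)).val else
    if h' : j - 4 < 4 then (v (.inr ⟨j - 4, h'⟩)).val else 0
  refine ⟨enc f, enc_lt f, ?_⟩
  rw [vv_enc]
  funext x
  rcases x with k | k
  · simp [f, k.2]
  · simp [f]

theorem cast_inj {a b : ℕ} (ha : a < 3) (hb : b < 3) (h : (a : ZMod 3) = b) : a = b := by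
  rwa [ZMod.natCast_eq_natCast_iff, Nat.ModEq, Nat.mod_eq_of_lt ha, Nat.mod_eq_of_lt hb] at h

theorem vv_inj {a b : ℕ} (ha : a < 6561) (hb : b < 6561) (h : vv a = vv b) : a = b := by
  have key : ∀ j < 8, dig a j = dig b j := by
    intro j hj
    refine cast_inj (dig_lt _ _) (dig_lt _ _) ?_
    rcases Nat.lt_or_ge j 4 with h4 | h4
    · exact congrFun h (.inl ⟨j, h4⟩)
    · have e := congrFun h (.inr ⟨j - 4, by omega⟩)
      simp only [vv, Sum.elim_inr] at e
      rwa [show 4 + (j - 4) = j by omega] at e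
  have h0 := key 0 (by norm_num)
  have h1 := key 1 (by norm_num)
  have h2 := key 2 (by norm_num)
  have h3 := key 3 (by norm_num)
  have h4 := key 4 (by norm_num)
  have h5 := key 5 (by norm_num)
  have h6 := key 6 (by norm_num)
  have h7 := key 7 (by norm_num)
  change (a / 3 ^ 0) % 3 = (b / 3 ^ 0) % 3 at h0
  change (a / 3 ^ 1) % 3 = (b / 3 ^ 1) % 3 at h1
  change (a / 3 ^ 2) % 3 = (b / 3 ^ 2) % 3 at h2
  change (a / 3 ^ 3) % 3 = (b / 3 ^ 3) % 3 at h3
  change (a / 3 ^ 4) % 3 = (b / 3 ^ 4) % 3 at h4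
  change (a / 3 ^ 5) % 3 = (b / 3 ^ 5) % 3 at h5
  change (a / 3 ^ 6) % 3 = (b / 3 ^ 6) % 3 at h6
  change (a / 3 ^ 7) % 3 = (b / 3 ^ 7) % 3 at h7
  norm_num at h0 h1 h2 h3 h4 h5 h6 h7
  omega

theorem negc_lt (c : ℕ) : negc c < 6561 := enc_lt (fun j => 2 * dig c j)

theorem rc_lt (a v : ℕ) : rc a v < 6561 := enc_lt (fun j => dig v j + pc a v * dig a j)

theorem qc_lt (c : ℕ) : qc c < 3 := Nat.mod_lt _ (by norm_num)

attribute [local irreducible] cd look pt1 unpack enc rc negc qc pc

/-! ### The lines of norm two -/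

/-- The vector of a point. -/
def vc (i : Fin 1080) : V8 := vv (cd i)

theorem cd_spec {i : ℕ} (hi : i < 1080) :
    cd i < 6561 ∧ qc (cd i) = 2 ∧ look (cd i) = i ∧ look (negc (cd i)) = i ∧ pt1 i < 31671 := by
  have h := vec_ok
  simp only [vecK, Bool.and_eq_true, List.all_eq_true, List.mem_range, Nat.blt_eq, Nat.beq_eq] at h
  exact h.1 i hi

theorem Q8_vc (i : Fin 1080) : Q8 (vc i) = 2 := by
  rw [vc, Q8_vv, (cd_spec i.2).2.1, Nat.cast_ofNat]

theorem exists_line {v : V8} (hv : Q8 v = 2) : ∃ i : Fin 1080, v = vc i ∨ v = -vc i := by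
  obtain ⟨c, hc, rfl⟩ := exists_code v
  have hq : qc c = 2 := cast_inj (qc_lt c) (by norm_num) (by rw [← Q8_vv, hv, Nat.cast_ofNat])
  have h := vec_ok
  simp only [vecK, Bool.and_eq_true, List.all_eq_true, List.mem_range, Nat.blt_eq, Nat.beq_eq,
    Bool.or_eq_true, Bool.not_eq_true'] at h
  rcases h.2 c hc with e | ⟨hl, he⟩
  · rw [Nat.beq_eq.mpr hq] at e; exact absurd e (by decide)
  · refine ⟨⟨look c, hl⟩, he.imp (fun e => ?_) (fun e => ?_)⟩
    · show vv c = vv (cd (look c)); rw [e]
    · show vv c = -vv (cd (look c)); rw [← vv_negc, e]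

theorem line_unique {i j : Fin 1080} (h : vc i = vc j ∨ vc i = -vc j) : i = j := by
  obtain ⟨hi, -, h1, -⟩ := cd_spec i.2
  obtain ⟨hj, -, h2, h3, -⟩ := cd_spec j.2
  refine Fin.ext ?_
  rcases h with h | h
  · rw [← h1, vv_inj hi hj h, h2]
  · rw [vc, vc, ← vv_negc] at h
    rw [← h1, vv_inj hi (negc_lt _) h, h3]

/-- The line of a vector of norm two. -/
noncomputable def lineOf (v : V8) : Fin 1080 :=
  haveI := Classical.dec (∃ i : Fin 1080, v = vc i ∨ v = -vc i)
  if h : ∃ i : Fin 1080, v = vc i ∨ v = -vc i then h.choose else 0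

theorem lineOf_eq {v : V8} {i : Fin 1080} (h : v = vc i ∨ v = -vc i) : lineOf v = i := by
  have he : ∃ i : Fin 1080, v = vc i ∨ v = -vc i := ⟨i, h⟩
  rw [lineOf, dif_pos he]
  refine line_unique ?_
  rcases he.choose_spec with e | e <;> rcases h with h | h
  · exact Or.inl (e.symm.trans h)
  · exact Or.inr (e.symm.trans h)
  · exact Or.inr (neg_eq_iff_eq_neg.1 (e.symm.trans h))
  · exact Or.inl (neg_inj.1 (e.symm.trans h))

theorem lineOf_spec (g : G8) (i : Fin 1080) :
    g.1 (vc i) = vc (lineOf (g.1 (vc i))) ∨ g.1 (vc i) = -vc (lineOf (g.1 (vc i))) := by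
  obtain ⟨j, hj⟩ := exists_line (show Q8 (g.1 (vc i)) = 2 by rw [apply_quad, Q8_vc])
  rwa [lineOf_eq hj]

theorem line_mul (g h : G8) (i : Fin 1080) :
    lineOf ((g * h).1 (vc i)) = lineOf (g.1 (vc (lineOf (h.1 (vc i))))) := by
  refine lineOf_eq ?_
  show g.1 (h.1 (vc i)) = _ ∨ g.1 (h.1 (vc i)) = _
  rcases lineOf_spec h i with e | e <;> rcases lineOf_spec g (lineOf (h.1 (vc i))) with e' | e'
  · left; rw [← e'] ; exact congrArg _ e
  · right; rw [← e']; exact congrArg _ e
  · right; rw [← e', ← map_neg]; exact congrArg _ e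
  · left
    exact ((congrArg _ e).trans (map_neg g.1 _)).trans ((congrArg Neg.neg e').trans (neg_neg _))

theorem line_one (i : Fin 1080) : lineOf ((1 : G8).1 (vc i)) = i := lineOf_eq (Or.inl rfl)

/-- The action on the lines. -/
noncomputable def lineHom : G8 →* Equiv.Perm (Fin 1080) :=
  MonoidHom.mk'
    (fun g =>
      { toFun := fun i => lineOf (g.1 (vc i))
        invFun := fun i => lineOf ((g⁻¹).1 (vc i))
        left_inv := fun i => by
          show lineOf ((g⁻¹).1 (vc (lineOf (g.1 (vc i))))) = i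
          rw [← line_mul, inv_mul_cancel, line_one]
        right_inv := fun i => by
          show lineOf (g.1 (vc (lineOf ((g⁻¹).1 (vc i))))) = i
          rw [← line_mul, mul_inv_cancel, line_one] })
    fun g h => Equiv.ext (line_mul g h)

theorem lineHom_apply (g : G8) (i : Fin 1080) : lineHom g i = lineOf (g.1 (vc i)) := rfl

/-- The reflection of a line. -/
noncomputable def rl (i : Fin 1080) : G8 := refl Q8 (vc i)

theorem refl_line {v : V8} {i : Fin 1080} (h : v = vc i ∨ v = -vc i) : refl Q8 v = rl i := by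
  rcases h with rfl | rfl
  · rfl
  · rw [← neg_one_smul (ZMod 3) (vc i), CfsgLib.Orth.refl_smul _ (by decide)]; rfl

theorem conj_rl (g : G8) (i : Fin 1080) : g * rl i * g⁻¹ = rl (lineHom g i) := by
  rw [rl, conj_refl]
  exact refl_line (lineOf_spec g i)

theorem lineHom_rl (k i : Fin 1080) {j : ℕ} (h : look (rc (cd k) (cd i)) = j) (hj : j < 1080) :
    lineHom (rl k) i = ⟨j, hj⟩ := by
  have hv : vv (rc (cd k) (cd i)) = (rl k).1 (vc i) := vv_rc (cd_spec k.2).2.1 _
  obtain ⟨m, hm⟩ := exists_line (show Q8 ((rl k).1 (vc i)) = 2 by rw [apply_quad, Q8_vc])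
  rw [lineHom_apply, lineOf_eq hm]
  refine Fin.ext ?_
  show (m : ℕ) = j
  obtain ⟨hm1, -, hm3, hm4, -⟩ := cd_spec m.2
  rw [← hv] at hm
  have hlt := rc_lt (cd k) (cd i)
  rcases hm with e | e
  · rw [← h, vv_inj hlt hm1 e, hm3]
  · rw [vc, ← vv_negc] at e
    rw [← h, vv_inj hlt (negc_lt _) e]
    exact hm4.symm

theorem det_rl (i : Fin 1080) : LinearMap.det ((rl i).1 : V8 →ₗ[ZMod 3] V8) = -1 :=
  det_refl Q8 (by rw [Q8_vc]; decide)

/-- The determinant. -/
noncomputable def detHom : G8 →* ZMod 3 where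
  toFun g := LinearMap.det (g.1 : V8 →ₗ[ZMod 3] V8)
  map_one' := LinearMap.det_id
  map_mul' g h := by rw [← map_mul]; rfl

/-- The group of the reflections of norm two. -/
noncomputable def R8 : Subgroup G8 := Subgroup.closure (Set.range rl)

/-- The group of their even products. -/
noncomputable def S8 : Subgroup G8 := Subgroup.closure {g | ∃ i j, g = rl i * rl j}

theorem omega_le_R8 : commutator G8 ≤ R8 := by
  have hle : Subgroup.closure (classRefl Q8 2) ≤ R8 := by
    refine (Subgroup.closure_le _).2 ?_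
    rintro _ ⟨v, t, ht, hv, rfl⟩
    have hv2 : Q8 v = 2 := by
      rw [hv]
      exact (show ∀ s : ZMod 3, s ≠ 0 → 2 * s ^ 2 = 2 by decide) t ht
    obtain ⟨i, hi⟩ := exists_line hv2
    exact Subgroup.subset_closure ⟨i, (refl_line hi).symm⟩
  refine le_trans ?_ hle
  have hidx := index_classRefl Q8_nondeg two_ne (2 : ZMod 3) two_ne
    (fun h => by rw [finrank8] at h; omega) (by rw [finrank8]; decide) (by rw [finrank8]; norm_num)
  haveI := Subgroup.normal_of_index_eq_two hidx
  haveI : IsCyclic (G8 ⧸ Subgroup.closure (classRefl Q8 2)) :=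
    isCyclic_of_prime_card (p := 2) hidx
  rw [commutator_def, Subgroup.commutator_le]
  intro a _ b _
  rw [← QuotientGroup.eq_one_iff, ← QuotientGroup.mk'_apply, map_commutatorElement,
    commutatorElement_eq_one_iff_mul_comm]
  exact Std.Commutative.comm (op := (· * ·)) _ _

theorem rl_sq (i : Fin 1080) : rl i * rl i = 1 := refl_mul_self _ _

theorem S8_conj (k : Fin 1080) {g : G8} (hg : g ∈ S8) : rl k * g * rl k ∈ S8 := by
  induction hg using Subgroup.closure_induction with
  | mem x hx =>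
    obtain ⟨i, j, rfl⟩ := hx
    have h1 := conj_rl (rl k) i
    have h2 := conj_rl (rl k) j
    rw [show (rl k)⁻¹ = rl k from refl_inv _ _] at h1 h2
    rw [show rl k * (rl i * rl j) * rl k = rl k * rl i * rl k * (rl k * rl j * rl k) by
      simp only [mul_assoc]; rw [← mul_assoc (rl k) (rl k) _, rl_sq, one_mul], h1, h2]
    exact Subgroup.subset_closure ⟨_, _, rfl⟩
  | one => rw [mul_one, rl_sq]; exact one_mem _
  | mul x y _ _ hx hy =>
    rw [show rl k * (x * y) * rl k = rl k * x * rl k * (rl k * y * rl k) by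
      simp only [mul_assoc]; rw [← mul_assoc (rl k) (rl k) _, rl_sq, one_mul]]
    exact mul_mem hx hy
  | inv x _ hx =>
    have := inv_mem hx
    rwa [mul_inv_rev, mul_inv_rev, show (rl k)⁻¹ = rl k from refl_inv _ _, ← mul_assoc] at this

theorem det_S8 {g : G8} (hg : g ∈ S8) : detHom g = 1 := by
  induction hg using Subgroup.closure_induction with
  | mem x hx =>
    obtain ⟨i, j, rfl⟩ := hx
    rw [map_mul]
    show LinearMap.det ((rl i).1 : V8 →ₗ[ZMod 3] V8) * LinearMap.det ((rl j).1 : V8 →ₗ[ZMod 3] V8) = 1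
    rw [det_rl, det_rl]; decide
  | one => exact map_one _
  | mul x y _ _ hx hy => rw [map_mul, hx, hy, one_mul]
  | inv x _ hx =>
    have := map_mul detHom x x⁻¹
    rw [mul_inv_cancel, map_one, hx, one_mul] at this
    exact this.symm

theorem R8_cases (g : G8) (hg : g ∈ R8) (k : Fin 1080) : g ∈ S8 ∨ g * rl k ∈ S8 := by
  induction hg using Subgroup.closure_induction with
  | mem x hx => obtain ⟨i, rfl⟩ := hx; exact Or.inr (Subgroup.subset_closure ⟨i, k, rfl⟩)
  | one => exact Or.inl (one_mem _)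
  | mul x y _ _ hx hy =>
    rcases hx with hx | hx <;> rcases hy with hy | hy
    · exact Or.inl (mul_mem hx hy)
    · exact Or.inr (by rw [mul_assoc]; exact mul_mem hx hy)
    · refine Or.inr ?_
      rw [show x * y * rl k = x * rl k * (rl k * y * rl k) by
        simp only [mul_assoc]; rw [← mul_assoc (rl k) (rl k) _, rl_sq, one_mul]]
      exact mul_mem hx (S8_conj k hy)
    · refine Or.inl ?_
      rw [show x * y = x * rl k * (rl k * (y * rl k) * rl k) by
        simp only [mul_assoc]; rw [← mul_assoc (rl k) (rl k) _, rl_sq, one_mul, mul_one]]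
      exact mul_mem hx (S8_conj k hy)
  | inv x _ hx =>
    rcases hx with hx | hx
    · exact Or.inl (inv_mem hx)
    · refine Or.inr ?_
      have := S8_conj k (inv_mem hx)
      rwa [mul_inv_rev, show (rl k)⁻¹ = rl k from refl_inv _ _, ← mul_assoc, rl_sq, one_mul] at this

theorem commutator_eq_S8 : commutator G8 = S8 := by
  refine le_antisymm (fun g hg => ?_) ((Subgroup.closure_le _).2 ?_)
  · rcases R8_cases g (omega_le_R8 hg) 0 with h | h
    · exact h
    · exfalso
      have h1 : detHom g = 1 := (Subgroup.commutator_le (H₃ := detHom.toHomUnits.ker)).2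
        (fun a _ b _ => MonoidHom.mem_ker.2 (by
          rw [map_commutatorElement, commutatorElement_eq_one_iff_commute]; exact Commute.all _ _)) hg |>
        fun h => congrArg Units.val (MonoidHom.mem_ker.1 h)
      have h2 := det_S8 h
      rw [map_mul, h1, one_mul] at h2
      exact absurd ((det_rl 0).symm.trans h2) (by decide)
  · rintro _ ⟨i, j, rfl⟩
    rw [SetLike.mem_coe, mem_commutator_iff, map_mul, rl, rl,
      ab_refl_eq Q8_nondeg good8 (b := vc j) (by rw [Q8_vc]; decide) (by rw [Q8_vc]; decide)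
        (by rw [Q8_vc, Q8_vc]; exact ⟨2, rfl⟩), ab_refl_sq]

theorem ker_lineHom {g : G8} (h : lineHom g = 1) : g = 1 ∨ g = negEl Q8 := by
  refine eq_one_or_negEl_of_commute Q8_nondeg two_ne (hypPairs_plus 4 (by norm_num)) g fun c hc => ?_
  have hle : R8 ≤ Subgroup.centralizer {g} := (Subgroup.closure_le _).2 (by
    rintro _ ⟨i, rfl⟩
    rw [SetLike.mem_coe, Subgroup.mem_centralizer_singleton_iff]
    have := conj_rl g i
    rw [h, Equiv.Perm.one_apply, mul_inv_eq_iff_eq_mul] at this
    exact this.symm)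
  exact (Subgroup.mem_centralizer_singleton_iff.1 (hle (omega_le_R8 hc))).symm

theorem lineHom_negEl : lineHom (negEl Q8) = 1 :=
  Equiv.ext fun i => lineOf_eq (Or.inr (by simp [negEl]))

/-- The lines give the simple section. -/
theorem range_pomega :
    Nonempty (↥((commutator G8).map lineHom) ≃* Cfsg.POmega (ZMod 3) (Cfsg.quadFormPlus 4 (ZMod 3))) := by
  set f := lineHom.comp (commutator G8).subtype with hf
  have hker : f.ker = Subgroup.center ↥(commutator G8) := by
    ext z
    rw [MonoidHom.mem_ker, Subgroup.mem_center_iff]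
    constructor
    · intro hz c
      rcases ker_lineHom (g := z.1) hz with e | e
      · rw [show z = 1 from Subtype.ext e, mul_one, one_mul]
      · exact Subtype.ext (by show c.1 * z.1 = z.1 * c.1; rw [e]; exact negEl_comm c.1)
    · intro hz
      rcases eq_one_or_negEl_of_commute Q8_nondeg two_ne (hypPairs_plus 4 (by norm_num)) z.1
        (central_commutes z (Subgroup.mem_center_iff.2 hz)) with e | e
      · show lineHom z.1 = 1; rw [e, map_one]
      · show lineHom z.1 = 1; rw [e, lineHom_negEl]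
  have e1 := QuotientGroup.quotientKerEquivRange f
  have hrange : f.range = (commutator G8).map lineHom := by
    rw [hf, MonoidHom.range_comp, Subgroup.range_subtype]
  refine ⟨((MulEquiv.subgroupCongr hrange).symm.trans e1.symm).trans
    ((QuotientGroup.quotientMulEquivOfEq hker).trans (QuotientGroup.congr _ _
      (omegaEquiv Q8 (plusForm_apply (F := ZMod 3) 4)).symm ?_))⟩
  refine le_antisymm (Subgroup.map_le_iff_le_comap.2 fun z hz => ?_) fun z hz => ⟨omegaEquiv Q8 (plusForm_apply (F := ZMod 3) 4) z, ?_, ?_⟩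
  · rw [Subgroup.mem_comap, Subgroup.mem_center_iff]
    intro c
    obtain ⟨c, rfl⟩ := (omegaEquiv Q8 (plusForm_apply (F := ZMod 3) 4)).symm.surjective c
    exact (map_mul _ c z).symm.trans ((congrArg _ (Subgroup.mem_center_iff.1 hz c)).trans (map_mul _ z c))
  · rw [SetLike.mem_coe, Subgroup.mem_center_iff]
    intro c
    obtain ⟨c, rfl⟩ := (omegaEquiv Q8 (plusForm_apply (F := ZMod 3) 4)).surjective c
    rw [← map_mul, ← map_mul, Subgroup.mem_center_iff.1 hz c]
  · exact (omegaEquiv Q8 (plusForm_apply (F := ZMod 3) 4)).symm_apply_apply z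

end CfsgLib.Sporadic.Fi23Tri
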