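import Cfsg.Agent.Lib.Sporadic.FiTransfer.Fi23Tri.Orth
import Cfsg.Agent.Lib.Sporadic.FiTransfer.Fi23Tri.CheckGenA
import Cfsg.Agent.Lib.Sporadic.FiTransfer.Fi23Tri.CheckGenB
import Cfsg.Agent.Lib.Sporadic.FiTransfer.Fi23Tri.CheckScanA
import Cfsg.Agent.Lib.Sporadic.FiTransfer.Fi23Tri.CheckScanB
import Cfsg.Agent.Lib.Sporadic.FiTransfer.Fi23Ten.Point

/-!
The 1080 transpositions of Fi23 acting on each other as reflections, and the group of their even products.
-/

set_option autoImplicit false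
set_option maxRecDepth 100000

open Cfsg.Spor

namespace CfsgLib.Sporadic.Fi23Tri

open CosetCert CosetCert.Fi23Data CosetCert.Fi23P CosetCert.Fi23P.OutFi
open CosetCert.Fi23P.Two (el el_img dp conj_dp comm_of_fix gpt gpt_val genPts eq_one_of_fix)
open Fi23Ten (mkPt mkPt_val dp_of_pts hom_sEl hom_sEl_eq sEl fix_step bool_beq_comm fix_of_comm)
open CfsgLib.Orth (refl_inv)

attribute [local irreducible] PTab.img Forest.cls Fi23Ten.imgS scanX cd look pt1 unpack rc

/-- A member of the class. -/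
noncomputable def dP (i : Fin 1080) : Fin table.N := mkPt (pt1 i)

theorem dP_val (i : Fin 1080) : (dP i : ℕ) = pt1 i := mkPt_val (cd_spec i.2).2.2.2.2

theorem dP_inj : Function.Injective dP := by
  intro i j h
  have he : pt1 i = pt1 j := by rw [← dP_val, ← dP_val, h]
  have hk := nodup_ok
  simp only [nodupK, List.all_eq_true, List.mem_range, Bool.not_eq_true'] at hk
  rcases Nat.lt_trichotomy i.1 j.1 with hl | hl | hl
  · exact absurd (hk j j.2 i hl) (by rw [he, Nat.beq_eq.mpr rfl]; decide)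
  · exact Fin.ext hl
  · exact absurd (hk i i.2 j hl) (by rw [he, Nat.beq_eq.mpr rfl]; decide)

/-- The transposition of a member. -/
noncomputable def xd (i : Fin 1080) : Fi23 := dp (dP i)

theorem xd_sq (i : Fin 1080) : xd i * xd i = 1 := dp_sq _

theorem xd_inv (i : Fin 1080) : (xd i)⁻¹ = xd i := Fi23Ten.dp_inv _

theorem gi_lt {k : ℕ} (hk : k < 11) : gi k < 1080 := by
  have h := halfs_ok
  simp only [halfsK, Bool.and_eq_true, List.all_eq_true, List.mem_range, Nat.blt_eq] at h
  exact (h.1.1.1.1.1.1 k hk).1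

/-- A generator. -/
noncomputable def gn (k : Fin 11) : Fin 1080 := ⟨gi k, gi_lt k.2⟩

theorem gh_spec (k : Fin 11) : Fi23Ten.Good [gh k] ∧ sEl [gh k] = xd (gn k) := by
  have h := halfs_ok
  simp only [halfsK, Bool.and_eq_true, List.all_eq_true, List.mem_range, Nat.blt_eq] at h
  exact dp_of_pts (cd_spec (gi_lt k.2)).2.2.2.2 (h.1.1.1.1.1.1 k k.2).2

theorem gen_ok {k : ℕ} (hk : k < 11) : genK k = true := by
  interval_cases k <;>
    first | exact gen0 | exact gen1 | exact gen2 | exact gen3 | exact gen4 | exact gen5 | exact gen6 |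
      exact gen7 | exact gen8 | exact gen9 | exact gen10

theorem look_rc_lt (a i : Fin 1080) : look (rc (cd a) (cd i)) < 1080 := by
  obtain ⟨c, hc⟩ : ∃ c, c = rc (cd a) (cd i) := ⟨_, rfl⟩
  have hq : qc c = 2 := cast_inj (qc_lt c) (by norm_num) (by
    rw [← Q8_vv, hc, vv_rc (cd_spec a.2).2.1, CfsgLib.Orth.apply_quad, ← vc, Q8_vc, Nat.cast_ofNat])
  have hlt : c < 6561 := hc ▸ rc_lt _ _
  have h := vec_ok
  simp only [vecK, Bool.and_eq_true, List.all_eq_true, List.mem_range, Nat.blt_eq, Bool.or_eq_true,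
    Bool.not_eq_true'] at h
  rcases h.2 c hlt with e | e
  · rw [hq] at e; exact absurd e (by decide)
  · rw [← hc]; exact e.1

/-- An element acts on the class as an isometry does on the lines. -/
def Compat (g : Fi23) (h : G8) : Prop := ∀ i, hom g (dP i) = dP (lineHom h i)

theorem Compat.one : Compat 1 1 := fun i => by rw [map_one, map_one]; rfl

theorem Compat.mul {g g' : Fi23} {h h' : G8} (a : Compat g h) (b : Compat g' h') : Compat (g * g') (h * h') :=
  fun i => by rw [map_mul, map_mul, Equiv.Perm.mul_apply, Equiv.Perm.mul_apply, b i, a]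

theorem Compat.inv {g : Fi23} {h : G8} (a : Compat g h) : Compat g⁻¹ h⁻¹ := fun i => by
  rw [map_inv, map_inv, Equiv.Perm.inv_def, Equiv.symm_apply_eq, a, Equiv.Perm.inv_def, Equiv.apply_symm_apply]

theorem compat_gen (k : Fin 11) : Compat (xd (gn k)) (rl (gn k)) := fun i => by
  have h := gen_ok k.2
  simp only [genK, List.all_eq_true, List.mem_range, Nat.beq_eq] at h
  rw [← (gh_spec k).2, lineHom_rl (gn k) i rfl (look_rc_lt _ _)]
  exact hom_sEl_eq (gh_spec k).1 (by rw [dP_val, dP_val]; exact h i i.2)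

theorem Compat.conj {g : Fi23} {h : G8} (a : Compat g h) (i : Fin 1080) :
    g * xd i * g⁻¹ = xd (lineHom h i) ∧ h * rl i * h⁻¹ = rl (lineHom h i) :=
  ⟨by rw [xd, conj_dp, a]; rfl, conj_rl h i⟩

/-- The generated group of even products of generators. -/
noncomputable def E : Subgroup Fi23 := Subgroup.closure {g | ∃ k : Fin 11, g = xd (gn 0) * xd (gn k)}

theorem E_conj0 {g : Fi23} (hg : g ∈ E) : xd (gn 0) * g * xd (gn 0) ∈ E := by
  induction hg using Subgroup.closure_induction with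
  | mem x hx =>
    obtain ⟨k, rfl⟩ := hx
    rw [← mul_assoc, xd_sq, one_mul, show xd (gn k) * xd (gn 0) = (xd (gn 0) * xd (gn k))⁻¹ by
      rw [mul_inv_rev, xd_inv, xd_inv]]
    exact inv_mem (Subgroup.subset_closure ⟨k, rfl⟩)
  | one => rw [mul_one, xd_sq]; exact one_mem _
  | mul x y _ _ hx hy =>
    rw [show xd (gn 0) * (x * y) * xd (gn 0) = xd (gn 0) * x * xd (gn 0) * (xd (gn 0) * y * xd (gn 0)) by
      simp only [mul_assoc]; rw [← mul_assoc (xd (gn 0)) (xd (gn 0)) _, xd_sq, one_mul]]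
    exact mul_mem hx hy
  | inv x _ hx =>
    have := inv_mem hx
    rwa [mul_inv_rev, mul_inv_rev, xd_inv, ← mul_assoc] at this

theorem member (i : Fin 1080) : (∃ g h, Compat g h ∧ lineHom h (gn 0) = i) ∧ xd i * xd (gn 0) ∈ E := by
  have h := orb_ok
  simp only [orbK, Bool.and_eq_true, List.all_eq_true, List.any_eq_true, List.mem_range, Nat.blt_eq,
    Nat.beq_eq] at h
  obtain ⟨⟨⟨⟨h0, -⟩, -⟩, hd⟩, hall⟩ := h
  have hlt : ∀ p, p < 1080 → ord p < 1080 := by
    intro p
    induction p using Nat.strong_induction_on with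
    | _ p ih =>
      intro hp
      rcases p with _ | p
      · rw [h0]; exact gi_lt (by norm_num)
      · obtain ⟨d1, d2, d3, d4⟩ := hd p (by omega)
        rw [d3, ← d4]
        exact look_rc_lt (gn ⟨_, d1⟩) ⟨_, ih _ (by omega) (by omega)⟩
  have key : ∀ n < 1080, ∀ i : Fin 1080, i.val = ord n →
      (∃ g h, Compat g h ∧ lineHom h (gn 0) = i) ∧ xd i * xd (gn 0) ∈ E := by
    intro n
    induction n using Nat.strong_induction_on with
    | _ n ih =>
      intro hn i hi
      rcases n with _ | n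
      · rw [show i = gn 0 from Fin.ext (hi.trans h0), xd_sq]
        exact ⟨⟨1, 1, Compat.one, by rw [map_one]; rfl⟩, one_mem _⟩
      · obtain ⟨d1, d2, d3, d4⟩ := hd n (by omega)
        generalize orbDer.getD n (0, 11, 1080) = d at d1 d2 d3 d4
        have hplt : ord d.2.2 < 1080 := hlt d.2.2 (by omega)
        obtain ⟨⟨g, h, hc, he⟩, hE⟩ := ih d.2.2 (by omega) (by omega) ⟨ord d.2.2, hplt⟩ rfl
        set k : Fin 11 := ⟨d.2.1, d1⟩
        have e : lineHom (rl (gn k)) ⟨ord d.2.2, hplt⟩ = i := by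
          have hi' : i.val = d.1 := hi.trans d3
          rw [lineHom_rl (gn k) ⟨ord d.2.2, hplt⟩ (j := i.val) (d4.trans hi'.symm) i.2]
        refine ⟨⟨xd (gn k) * g, rl (gn k) * h, (compat_gen k).mul hc, ?_⟩, ?_⟩
        · rw [map_mul, Equiv.Perm.mul_apply, he, e]
        · have hx := ((compat_gen k).conj ⟨ord d.2.2, hplt⟩).1
          rw [e, xd_inv] at hx
          rw [← hx, show xd (gn k) * xd ⟨ord d.2.2, hplt⟩ * xd (gn k) * xd (gn 0) =
            (xd (gn 0) * xd (gn k))⁻¹ * (xd (gn 0) * (xd ⟨ord d.2.2, hplt⟩ * xd (gn 0)) * xd (gn 0)) *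
              (xd (gn 0) * xd (gn k))⁻¹ by
            rw [mul_inv_rev, xd_inv, xd_inv]
            have hsq : ∀ z, xd (gn 0) * (xd (gn 0) * z) = z := fun z => by rw [← mul_assoc, xd_sq, one_mul]
            simp only [mul_assoc, xd_sq, mul_one, hsq]]
          exact mul_mem (mul_mem (inv_mem (Subgroup.subset_closure ⟨k, rfl⟩)) (E_conj0 hE))
            (inv_mem (Subgroup.subset_closure ⟨k, rfl⟩))
  obtain ⟨n, hn, e⟩ := hall i i.2
  exact key n hn i e.symm

theorem xd_pair_mem (i j : Fin 1080) : xd i * xd j ∈ E := by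
  rw [show xd i * xd j = xd i * xd (gn 0) * (xd j * xd (gn 0))⁻¹ by
    rw [mul_inv_rev, xd_inv, xd_inv, mul_assoc, ← mul_assoc (xd (gn 0)) (xd (gn 0)), xd_sq, one_mul]]
  exact mul_mem (member i).2 (inv_mem (member j).2)

theorem compat_xd (i : Fin 1080) : Compat (xd i) (rl i) := by
  obtain ⟨⟨g, h, hc, he⟩, -⟩ := member i
  obtain ⟨e1, e2⟩ := hc.conj (gn 0)
  rw [he] at e1 e2
  rw [← e1, ← e2]
  exact (hc.mul (compat_gen 0)).mul hc.inv

/-- An element fixing the whole class is trivial. -/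
theorem eq_one_of_fix_class {g : Fi23} (hg : ∀ i, hom g (dP i) = dP i) : g = 1 := by
  have h := halfs_ok
  simp only [halfsK, Bool.and_eq_true, List.all_eq_true, List.mem_range, Nat.blt_eq, Nat.beq_eq] at h
  obtain ⟨⟨⟨⟨⟨⟨-, hW⟩, hC⟩, -⟩, -⟩, -⟩, hwlt⟩ := h
  set u := hom g (mkPt wPt) with hu
  have hlen : wHalf.length = wSig.length := by decide
  have hsig : ∀ a ∈ wHalf, Fi23Ten.imgS [a] u = u := by
    intro a ha
    obtain ⟨m, hm, rfl⟩ := List.mem_iff_getElem.1 ha
    obtain ⟨h1, h2, h3⟩ := hW m (hlen ▸ hm)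
    rw [List.getD_eq_getElem _ _ hm] at h2 h3
    obtain ⟨hgood, hdp⟩ := dp_of_pts (cd_spec h1).2.2.2.2 h2
    have hfix : hom (dp (dP ⟨_, h1⟩)) (mkPt wPt) = mkPt wPt := by
      show hom (dp (mkPt (pt1 _))) _ = _
      rw [← hdp]; exact hom_sEl_eq hgood (by rw [mkPt_val hwlt]; exact h3)
    rw [← hom_sEl hgood, hdp]
    exact congrArg Fin.val ((bool_beq_comm (hg ⟨_, h1⟩)).2 hfix)
  have key : ∀ {s n : ℕ}, scanX s n = true → s ≤ u.1 → u.1 < s + n → (u : ℕ) = wPt := by
    intro s n hK h1 h2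
    unfold scanX at hK
    have h3 := List.all_eq_true.1 hK (u.1 - s) (List.mem_range.2 (by omega))
    rw [show s + (u.1 - s) = u.1 by omega, Bool.or_eq_true] at h3
    rcases h3 with h3 | h3
    · exact Nat.eq_of_beq_eq_true h3
    · obtain ⟨a, ha, hne⟩ := List.any_eq_true.1 h3
      rw [Nat.beq_eq.mpr (hsig a ha)] at hne
      exact absurd hne (by decide)
  have hw : hom g (mkPt wPt) = mkPt wPt := by
    refine Fin.ext ?_
    rw [mkPt_val hwlt, ← hu]
    have hN : u.1 < 31671 := u.2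
    rcases lt_or_ge u.1 8000 with h1 | h1
    · exact key scanX0 (Nat.zero_le _) (by omega)
    rcases lt_or_ge u.1 16000 with h2 | h2
    · exact key scanX1 h1 (by omega)
    rcases lt_or_ge u.1 24000 with h3 | h3
    · exact key scanX2 h2 (by omega)
    exact key scanX3 h3 (by omega)
  have hk := clos_ok
  simp only [closK, Bool.and_eq_true, List.all_eq_true, List.mem_range, Nat.blt_eq, Nat.beq_eq] at hk
  obtain ⟨⟨⟨h1, h2⟩, h3⟩, h4⟩ := hk
  have hfix : ∀ m, m < 28 → hom g (mkPt (closPts.getD m 31671)) = mkPt (closPts.getD m 31671) := by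
    intro m
    induction m using Nat.strong_induction_on with
    | _ m ih =>
      intro hm
      rcases Nat.lt_or_ge m 14 with hl | hl
      · rcases m with _ | m
        · rw [h1]; exact hw
        · obtain ⟨e1, e2⟩ := h2 m (by omega)
          rw [e2]
          exact hg ⟨_, e1⟩
      · obtain ⟨d1, d2, d3⟩ := h3 (m - 14) (by omega)
        rw [show 14 + (m - 14) = m by omega] at d1 d2 d3
        generalize closDer.getD (m - 14) (28, 28) = d at d1 d2 d3
        obtain ⟨hlt1, hK1⟩ := hC d.1 (by omega)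
        obtain ⟨hgood, hdp⟩ := dp_of_pts hlt1 hK1
        have e : hom (dp (mkPt (closPts.getD d.1 31671))) (mkPt (closPts.getD d.2 31671))
            = mkPt (closPts.getD m 31671) := by
          rw [← hdp]
          exact hom_sEl_eq hgood (by
            rw [mkPt_val (hC d.2 (by omega)).1, mkPt_val (hC m hm).1]; exact d3)
        rw [← e]
        exact fix_step (ih d.1 d1 (by omega)) (ih d.2 d2 (by omega))
  refine eq_one_of_fix fun x hx => ?_
  obtain ⟨hx1, hx2⟩ := h4 x hx
  have e : gpt x = mkPt (closPts.getD (genIx.getD x 28) 31671) := Fin.ext (by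
    rw [gpt_val hx, mkPt_val (hC _ hx1).1, hx2, List.getD_eq_getElem _ _ (show x < genPts.length from hx),
      List.getD_eq_getElem _ _ (show x < genPts.length from hx)])
  rw [e]
  exact hfix _ hx1

theorem compat_unique {g g' : Fi23} {h h' : G8} (a : Compat g h) (b : Compat g' h')
    (e : lineHom h = lineHom h') : g = g' := by
  refine (inv_mul_eq_one.1 (eq_one_of_fix_class fun i => ?_)).symm
  rw [map_mul, Equiv.Perm.mul_apply, a i, e, ← b i, map_inv, Equiv.Perm.inv_def, Equiv.symm_apply_apply]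

theorem lineHom_unique {g : Fi23} {h h' : G8} (a : Compat g h) (b : Compat g h') : lineHom h = lineHom h' :=
  Equiv.ext fun i => dP_inj ((a i).symm.trans (b i))

theorem E_compat {g : Fi23} (hg : g ∈ E) : ∃ h ∈ S8, Compat g h := by
  induction hg using Subgroup.closure_induction with
  | mem x hx =>
    obtain ⟨k, rfl⟩ := hx
    exact ⟨_, Subgroup.subset_closure ⟨_, _, rfl⟩, (compat_xd _).mul (compat_xd _)⟩
  | one => exact ⟨1, one_mem _, Compat.one⟩
  | mul x y _ _ hx hy =>
    obtain ⟨h, hh, a⟩ := hx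
    obtain ⟨h', hh', b⟩ := hy
    exact ⟨_, mul_mem hh hh', a.mul b⟩
  | inv x _ hx =>
    obtain ⟨h, hh, a⟩ := hx
    exact ⟨_, inv_mem hh, a.inv⟩

theorem S8_compat {h : G8} (hh : h ∈ S8) : ∃ g ∈ E, Compat g h := by
  induction hh using Subgroup.closure_induction with
  | mem x hx =>
    obtain ⟨i, j, rfl⟩ := hx
    exact ⟨_, xd_pair_mem i j, (compat_xd i).mul (compat_xd j)⟩
  | one => exact ⟨1, one_mem _, Compat.one⟩
  | mul x y _ _ hx hy =>
    obtain ⟨g, hg, a⟩ := hx
    obtain ⟨g', hg', b⟩ := hy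
    exact ⟨_, mul_mem hg hg', a.mul b⟩
  | inv x _ hx =>
    obtain ⟨g, hg, a⟩ := hx
    exact ⟨_, inv_mem hg, a.inv⟩

/-- The permutation of the class by an even product. -/
noncomputable def rho : E →* Equiv.Perm (Fin 1080) :=
  MonoidHom.mk' (fun g => lineHom (E_compat g.2).choose) fun a b => by
    rw [← map_mul]
    exact lineHom_unique (E_compat (a * b).2).choose_spec.2
      ((E_compat a.2).choose_spec.2.mul (E_compat b.2).choose_spec.2)

theorem rho_eq {g : E} {h : G8} (a : Compat (g : Fi23) h) : rho g = lineHom h :=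
  lineHom_unique (E_compat g.2).choose_spec.2 a

theorem rho_inj : Function.Injective rho := fun a b e =>
  Subtype.ext (compat_unique (E_compat a.2).choose_spec.2 (E_compat b.2).choose_spec.2 e)

theorem rho_range : rho.range = (commutator G8).map lineHom := by
  rw [commutator_eq_S8]
  ext p
  constructor
  · rintro ⟨g, rfl⟩
    obtain ⟨h, hh, a⟩ := E_compat g.2
    exact ⟨h, hh, (rho_eq a).symm⟩
  · rintro ⟨h, hh, rfl⟩
    obtain ⟨g, hg, a⟩ := S8_compat hh
    exact ⟨⟨g, hg⟩, rho_eq a⟩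

theorem E_pomega : Nonempty (↥E ≃* Cfsg.POmega (ZMod 3) (Cfsg.quadFormPlus 4 (ZMod 3))) := by
  obtain ⟨e⟩ := range_pomega
  exact ⟨((MonoidHom.ofInjective rho_inj).trans (MulEquiv.subgroupCongr rho_range)).trans e⟩

end CfsgLib.Sporadic.Fi23Tri
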