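import Cfsg.Agent.Lib.Sporadic.FiTransfer.Fi23Tri.Group
import Cfsg.Agent.Lib.Components.GenFitting
import Cfsg.Agent.Lib.Components.Basic
import Cfsg.Agent.Lib.ThreeTransp.Indep.Levels
import Cfsg.Agent.Lib.Sporadic.FiTransfer23.Model
import Cfsg.Agent.S5363

/-!
The quotient by the even products, the generalised Fitting subgroup and the transpositions in the subgroup.
-/

set_option autoImplicit false
set_option maxRecDepth 100000

open Cfsg.Spor

namespace CfsgLib.Sporadic.Fi23Tri

open CosetCert CosetCert.Fi23Data CosetCert.Fi23P CosetCert.Fi23P.OutFi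
open CosetCert.Fi23P.Two (el el_img dp conj_dp comm_of_fix)
open Fi23Ten (mkPt mkPt_val fix_of_comm mem_classTr23 dp_mem_classTr23 braid_dp classTr23)
open CfsgLib.Classical (hypPairs_plus)

attribute [local irreducible] PTab.img Forest.cls Fi23Ten.imgS cd look pt1 unpack rc

theorem xd_mem_L (i : Fin 1080) : xd i ∈ L := by
  have h := mul_mem (E_le (xd_pair_mem i (gn 0))) aa_mem
  rwa [aa, mul_assoc, xd_sq, mul_one] at h

theorem E_normalized' {g e : Fi23} (hg : g ∈ L) (he : e ∈ E) : g⁻¹ * e * g ∈ E := by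
  simpa using E_normalized (inv_mem hg) he

/-- The stabiliser of the class in `L`. -/
noncomputable def P : Subgroup L where
  carrier := {g | Pres (g : Fi23)}
  one_mem' := fun i => ⟨i, by simp⟩
  mul_mem' := fun {a b} ha hb => ha.mul hb
  inv_mem' := fun {a} ha => ha.inv

theorem mem_P {g : L} : g ∈ P ↔ Pres (g : Fi23) := Iff.rfl

/-- The cosets of the stabiliser. -/
noncomputable def cosetEquiv : Fin 3 ≃ L ⧸ P :=
  Equiv.ofBijective (fun j => QuotientGroup.mk (⟨rep j, rep_mem j⟩ : L))
    ⟨fun i j e => rep_sep (mem_P.1 (QuotientGroup.eq.1 e)), fun q => by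
      induction q using QuotientGroup.induction_on with
      | H g =>
        obtain ⟨j, hj⟩ := decomp g.2
        exact ⟨j, QuotientGroup.eq.2 (mem_P.2 hj.pres)⟩⟩

/-- The action on the three cosets. -/
noncomputable def three : L →* Equiv.Perm (Fin 3) :=
  (cosetEquiv.symm.permCongrHom.toMonoidHom).comp (MulAction.toPermHom L (L ⧸ P))

theorem ker_three : three.ker = E.subgroupOf L := by
  have hker : three.ker = P.normalCore := by
    rw [Subgroup.normalCore_eq_ker]
    ext g
    simp only [three, MonoidHom.mem_ker, MonoidHom.comp_apply, MulEquiv.coe_toMonoidHom,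
      EmbeddingLike.map_eq_one_iff]
  rw [hker]
  ext g
  constructor
  · intro hg
    have h1 : g ∈ P := P.normalCore_le hg
    rcases inP_of_pres g.2 h1 with h | h
    · exact h
    · exfalso
      have h2 := hg ⟨bb, bb_mem⟩
      change Pres (bb * (g : Fi23) * bb⁻¹) at h2
      rw [bb_inv, show bb * (g : Fi23) * bb = bb * ((g : Fi23) * aa) * bb * (bb * aa * bb) by
        simp only [mul_assoc]; rw [← mul_assoc bb bb _, bb_sq, one_mul, ← mul_assoc aa aa _, aa_sq, one_mul]] at h2
      have h3 := (pres_E (bb_conj h)).inv.mul h2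
      rw [inv_mul_cancel_left, ← braid] at h3
      exact not_pres_aba h3
  · intro hg r
    exact pres_E (E_normalized r.2 hg)

theorem three_surj : Function.Surjective three := by
  haveI := finite
  let f : Bool × Fin 3 → L := fun q => ⟨rep q.2, rep_mem q.2⟩ * cond q.1 ⟨aa, aa_mem⟩ 1
  have hinj : Function.Injective (three ∘ f) := by
    rintro ⟨s, i⟩ ⟨t, j⟩ e
    have he : (f (s, i))⁻¹ * f (t, j) ∈ three.ker := by
      rw [MonoidHom.mem_ker, map_mul, map_inv]
      exact inv_mul_eq_one.2 e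
    rw [ker_three, Subgroup.mem_subgroupOf] at he
    have hcond : ∀ s : Bool, ((cond s ⟨aa, aa_mem⟩ 1 : L) : Fi23) = cond s aa 1 := fun s => by cases s <;> rfl
    simp only [f, Subgroup.coe_mul, Subgroup.coe_inv, hcond] at he
    have hc : ∀ s : Bool, Pres (cond s aa 1) := fun s => by
      cases s
      · exact fun i => ⟨i, by simp⟩
      · exact pres_aa
    have hij : i = j := rep_sep (by
      have := ((hc s).mul (pres_E he)).mul (hc t).inv
      rw [mul_inv_rev] at this
      simpa [mul_assoc] using this)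
    subst hij
    rw [mul_inv_rev, mul_assoc, inv_mul_cancel_left] at he
    cases s <;> cases t <;> simp [aa_inv] at he ⊢ <;> exact (aa_not_E he).elim
  have hsurj : Function.Surjective (three ∘ f) := by
    refine ((Fintype.bijective_iff_injective_and_card _).2 ⟨hinj, ?_⟩).2
    rw [Fintype.card_prod, Fintype.card_bool, Fintype.card_fin, Fintype.card_perm, Fintype.card_fin]
    rfl
  exact fun p => let ⟨q, hq⟩ := hsurj p; ⟨f q, hq⟩

theorem E_subgroupOf_normal : (E.subgroupOf L).Normal := by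
  rw [← ker_three]; infer_instance

theorem quotient_iso (hn : (E.subgroupOf L).Normal) :
    Nonempty (↥L ⧸ E.subgroupOf L ≃* Equiv.Perm (Fin 3)) :=
  ⟨(QuotientGroup.quotientMulEquivOfEq ker_three.symm).trans
    (QuotientGroup.quotientKerEquivOfSurjective three three_surj)⟩

theorem isDSubgroup_L : Cfsg.IsDSubgroup classTr23 L := by
  refine le_antisymm ((Subgroup.closure_le _).2 fun x hx => hx.2) ?_
  show Subgroup.closure _ ≤ _
  refine (Subgroup.closure_le _).2 ?_
  rintro x (⟨k, rfl⟩ | rfl)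
  · exact Subgroup.subset_closure ⟨dp_mem_classTr23 _, xd_mem_L _⟩
  · exact Subgroup.subset_closure ⟨dp_mem_classTr23 _, bb_mem⟩

theorem E_simple : IsSimpleGroup ↥E := by
  obtain ⟨e⟩ := E_pomega
  haveI := CfsgLib.Classical.pomega_simple Q8 (CfsgLib.Orth.plusForm_apply (F := ZMod 3) 4) Q8_nondeg good8
    (hypPairs_plus 4 (by norm_num)) (by rw [finrank8]; norm_num)
  exact e.isSimpleGroup

theorem three_fix (j : Fin 3) (h : Pres ((rep j)⁻¹ * aa * rep j)) : j = 0 := by
  have ha2 : ∀ z, aa * (aa * z) = z := fun z => by rw [← mul_assoc, aa_sq, one_mul]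
  fin_cases j
  · rfl
  · refine absurd (show Pres (aa * bb * aa) from ?_) not_pres_aba
    rw [braid]; simpa [rep, bb_inv] using h
  · refine absurd (show Pres (aa * bb * aa) from ?_) not_pres_aba
    rw [braid]; simpa [rep, aa_inv, bb_inv, mul_assoc, ha2] using h

theorem pres_of_commute {z : Fi23} (hz : z ∈ L) (hc : Commute z aa) : Pres z := by
  obtain ⟨m, hm⟩ := decomp hz
  obtain rfl : m = 0 := three_fix m (by
    have := (hm.pres.mul pres_aa).mul hm.pres.inv
    rwa [mul_inv_rev, inv_inv, show (rep m)⁻¹ * z * aa * (z⁻¹ * rep m) = (rep m)⁻¹ * (z * aa * z⁻¹) * rep m by group,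
      hc.eq, mul_inv_cancel_right] at this)
  simpa [rep] using hm.pres

theorem gn_comm : gn 1 ≠ gn 0 ∧ Commute (xd (gn 0)) (xd (gn 1)) := by
  have h := out_ok
  simp only [outK, Bool.and_eq_true, Nat.beq_eq, Bool.not_eq_true'] at h
  refine ⟨fun e => ?_, comm_of_fix ?_⟩
  · have e' : gi 1 = gi 0 := congrArg Fin.val e
    have := h.1.1.2
    rw [e', Nat.beq_eq.mpr rfl] at this
    exact absurd this (by decide)
  · rw [← (gh_spec 0).2]
    exact Fi23Ten.hom_sEl_eq (gh_spec 0).1 (by rw [dP_val]; exact h.1.1.1.2)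

theorem not_commute_EE : ∃ a ∈ E, ∃ b ∈ E, a * b ≠ b * a := by
  by_contra hall
  push Not at hall
  haveI := E_simple
  have hcomm : ∀ a b : E, a * b = b * a := fun a b => Subtype.ext (hall a a.2 b b.2)
  letI : CommGroup ↥E := { (inferInstance : Group ↥E) with mul_comm := hcomm }
  haveI : Group.IsSolvable ↥E := inferInstance
  obtain ⟨e⟩ := E_pomega
  have hs : Group.IsSolvable (Cfsg.POmega (ZMod 3) (Cfsg.quadFormPlus 4 (ZMod 3))) :=
    Group.isSolvable_of_surjective (f := e.toMonoidHom) e.surjective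
  exact CfsgLib.ThreeTransp.Indep.not_solvable_pomega hs

/-- The centraliser of the simple subgroup in `L` is trivial. -/
theorem centralizer_E {g : Fi23} (hg : g ∈ L) (hc : ∀ e ∈ E, g * e = e * g) : g = 1 := by
  haveI := finite
  set b0 := g * aa * g⁻¹ with hb0
  set bk := g * xd (gn 1) * g⁻¹ with hbk
  have hprod : b0 * bk = aa * xd (gn 1) := by
    rw [hb0, hbk, show g * aa * g⁻¹ * (g * xd (gn 1) * g⁻¹) = g * (aa * xd (gn 1)) * g⁻¹ by group,
      hc (aa * xd (gn 1)) (xd_pair_mem _ _)]
    exact mul_inv_cancel_right _ _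
  have hDb0 : b0 ∈ classTr23 := CfsgLib.Sporadic.FiTransfer23.classTr_conj (dp_mem_classTr23 _)
  have hDbk : bk ∈ classTr23 := CfsgLib.Sporadic.FiTransfer23.classTr_conj (dp_mem_classTr23 _)
  -- the members commuting with a product of two commuting members commute with both
  have hfour : Commute aa b0 := by
    have hinv : ∀ d ∈ classTr23, orderOf d = 2 := fun d hd => by
      obtain ⟨p, rfl⟩ := mem_classTr23.1 hd
      exact orderOf_eq_prime (hp := ⟨Nat.prime_two⟩) (by rw [pow_two, dp_sq]) (dp_ne_one p)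
    have hodd : ∀ a ∈ classTr23, ∀ b ∈ classTr23, Odd (orderOf (a * b)) ∨ orderOf (a * b) = 2 := by
      intro a ha b hb
      obtain ⟨p, rfl⟩ := mem_classTr23.1 ha
      obtain ⟨q, rfl⟩ := mem_classTr23.1 hb
      rcases Fi23Ten.three_or p q with e | e
      · rcases (Nat.dvd_prime Nat.prime_two).1 (orderOf_dvd_of_pow_eq_one e) with h | h
        · exact Or.inl (by rw [h]; decide)
        · exact Or.inr h
      · rcases (Nat.dvd_prime Nat.prime_three).1 (orderOf_dvd_of_pow_eq_one e) with h | h <;>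
          exact Or.inl (by rw [h]; decide)
    have key := (Cfsg.Agent.S5363.result hinv (fun g d hd => CfsgLib.Sporadic.FiTransfer23.classTr_conj hd)).1 hodd
      aa (dp_mem_classTr23 _) (xd (gn 1)) (dp_mem_classTr23 _) (fun e => gn_comm.1 (dP_inj (dp_injective e)))
      gn_comm.2
    have hmem : b0 ∈ {y : Fi23 | y ∈ classTr23 ∧ Commute (aa * xd (gn 1)) y} := by
      refine ⟨hDb0, ?_⟩
      rw [← hprod]
      have hbb : Commute b0 bk := gn_comm.2.map (MulAut.conj g).toMonoidHom
      exact (Commute.refl b0).mul_left hbb.symm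
    rw [key] at hmem
    exact hmem.1.2
  -- hence `g` stabilises the class
  have hP : Pres g := by
    obtain ⟨j, hj⟩ := decomp hg
    suffices hj0 : j = 0 by subst hj0; simpa [rep] using hj.pres
    obtain ⟨i, hi⟩ := hj.pres (gn 0)
    have hx : (rep j)⁻¹ * b0 * rep j = xd i := by
      rw [xd, ← hi, ← conj_dp, hb0, mul_inv_rev, inv_inv]
      show _ = (rep j)⁻¹ * g * aa * (g⁻¹ * rep j)
      simp only [mul_assoc]
    have hb0L : b0 ∈ L := mul_mem (mul_mem hg aa_mem) (inv_mem hg)
    rcases inP_of_pres hb0L (pres_of_commute hb0L hfour.symm) with h | h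
    · exfalso
      have h2 := E_normalized' (rep_mem j) h
      rw [hx] at h2
      have h3 := mul_mem (xd_pair_mem (gn 0) i) h2
      rw [mul_assoc, xd_sq, mul_one] at h3
      exact aa_not_E h3
    · refine three_fix j ?_
      have h2 := E_normalized' (rep_mem j) h
      rw [show (rep j)⁻¹ * (b0 * aa) * rep j = (rep j)⁻¹ * b0 * rep j * ((rep j)⁻¹ * aa * rep j) by group, hx] at h2
      have h3 := (pres_of_compat (compat_xd i)).mul (pres_E h2)
      rwa [← mul_assoc, xd_sq, one_mul] at h3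
  obtain ⟨h, hh, c⟩ : ∃ h, (h ∈ S8 ∨ h * rl (gn 0) ∈ S8) ∧ Compat g h := by
    rcases inP_of_pres hg hP with h | h
    · obtain ⟨k, hk, c⟩ := E_compat h
      exact ⟨k, Or.inl hk, c⟩
    · obtain ⟨k, hk, c⟩ := E_compat h
      refine ⟨k * rl (gn 0), Or.inr (by rwa [mul_assoc, rl_sq, mul_one]), ?_⟩
      have := c.mul (compat_xd (gn 0))
      rwa [mul_assoc, show aa * xd (gn 0) = 1 from xd_sq _, mul_one] at this
  have hcomm : ∀ s ∈ S8, lineHom (h * s * h⁻¹ * s⁻¹) = 1 := fun s hs => by
    obtain ⟨e, he, ce⟩ := S8_compat hs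
    have h1 := ((c.mul ce).mul c.inv).mul ce.inv
    rw [hc e he, mul_inv_cancel_right, mul_inv_cancel] at h1
    rw [← lineHom_unique Compat.one h1, map_one]
  have hall : ∀ s ∈ commutator G8, h * s = s * h := by
    intro s hs
    let K : Subgroup G8 :=
      { carrier := {u | u ∈ S8 ∧ h * u * h⁻¹ * u⁻¹ = 1}
        one_mem' := ⟨one_mem _, by simp⟩
        mul_mem' := fun {a b} ha hb => ⟨mul_mem ha.1 hb.1, by
          rw [mul_inv_eq_one] at *
          rw [show h * (a * b) * h⁻¹ = h * a * h⁻¹ * (h * b * h⁻¹) by group, mul_inv_eq_one.1 ha.2,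
            mul_inv_eq_one.1 hb.2]⟩
        inv_mem' := fun {a} ha => ⟨inv_mem ha.1, by
          rw [mul_inv_eq_one, show h * a⁻¹ * h⁻¹ = (h * a * h⁻¹)⁻¹ by group, mul_inv_eq_one.1 ha.2]⟩ }
    have hle : ⁅commutator G8, commutator G8⁆ ≤ K := by
      refine Subgroup.commutator_le.2 fun a ha b hb => ?_
      rw [commutator_eq_S8] at ha hb
      refine ⟨mul_mem (mul_mem (mul_mem ha hb) (inv_mem ha)) (inv_mem hb), ?_⟩
      rw [mul_inv_eq_one, commutatorElement_def]
      have hz : ∀ u ∈ S8, ∃ z : G8, (∀ w : G8, z * w = w * z) ∧ h * u * h⁻¹ = z * u := fun u hu =>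
        ⟨h * u * h⁻¹ * u⁻¹, by
          rcases ker_lineHom (hcomm u hu) with e | e
          · intro w; rw [e, one_mul, mul_one]
          · intro w; rw [e]; exact (CfsgLib.Classical.negEl_comm w).symm,
          (inv_mul_cancel_right _ _).symm⟩
      obtain ⟨za, za1, za2⟩ := hz a ha
      obtain ⟨zb, zb1, zb2⟩ := hz b hb
      rw [show h * (a * b * a⁻¹ * b⁻¹) * h⁻¹ = h * a * h⁻¹ * (h * b * h⁻¹) * (h * a * h⁻¹)⁻¹ * (h * b * h⁻¹)⁻¹
        by group, za2, zb2]
      calc za * a * (zb * b) * (za * a)⁻¹ * (zb * b)⁻¹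
          = za * (a * zb) * b * a⁻¹ * za⁻¹ * b⁻¹ * zb⁻¹ := by group
        _ = za * zb * (a * b * a⁻¹) * za⁻¹ * b⁻¹ * zb⁻¹ := by rw [← zb1 a]; group
        _ = za * zb * za⁻¹ * (a * b * a⁻¹ * b⁻¹) * zb⁻¹ := by
            rw [mul_assoc (za * zb) _ za⁻¹, ← Commute.inv_left (show Commute za (a * b * a⁻¹) from za1 _)]; group
        _ = zb * (a * b * a⁻¹ * b⁻¹) * zb⁻¹ := by rw [za1 zb]; group
        _ = a * b * a⁻¹ * b⁻¹ := by rw [zb1, mul_inv_cancel_right]
    have hperf := CfsgLib.Classical.commutator_perfect Q8_nondeg good8 (hypPairs_plus 4 (by norm_num))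
      (by rw [finrank8]; norm_num)
    have := (hle (hperf hs)).2
    rwa [mul_inv_eq_one, mul_inv_eq_iff_eq_mul] at this
  refine compat_unique c Compat.one ?_
  rcases CfsgLib.Classical.eq_one_or_negEl_of_commute Q8_nondeg two_ne (hypPairs_plus 4 (by norm_num)) h hall
    with e | e
  · rw [e]
  · rw [e, lineHom_negEl, map_one]

end CfsgLib.Sporadic.Fi23Tri
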